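import Mathlib
import Cfsg.Agent.Lib.helper8.CoprimeAction

set_option linter.style.haveILetI false

namespace Cfsg.Agent.Lib.helper7

open Subgroup Cfsg.Agent.Lib.helper8

universe u

/-- The quotient map from `Y` onto `(X ⊔ Y) / X` when `Y` normalizes `X`. -/
theorem sup_quot_surj {G : Type u} [Group G] (X Y : Subgroup G)
    (hn : Y ≤ normalizer (X : Set G)) :
    haveI : (X.subgroupOf (X ⊔ Y)).Normal := normal_subgroupOf_sup hn
    Function.Surjective ((QuotientGroup.mk' (X.subgroupOf (X ⊔ Y))).comp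
      (Subgroup.inclusion (le_sup_right : Y ≤ X ⊔ Y))) := by
  haveI : (X.subgroupOf (X ⊔ Y)).Normal := normal_subgroupOf_sup hn
  intro q
  obtain ⟨⟨l, hl⟩, rfl⟩ := QuotientGroup.mk'_surjective (X.subgroupOf (X ⊔ Y)) q
  obtain ⟨x, hx, y, hy, rfl⟩ := (mem_sup_iff_of_le_normalizer hn l).mp hl
  refine ⟨⟨y, hy⟩, ?_⟩
  simp only [MonoidHom.coe_comp, Function.comp_apply, QuotientGroup.mk'_apply]
  rw [QuotientGroup.eq]
  rw [mem_subgroupOf]
  simp only [Subgroup.coe_mul, Subgroup.coe_inv, Subgroup.coe_inclusion]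
  have : y⁻¹ * (x * y) = y⁻¹ * x * y := by group
  rw [this]
  exact conj_mem_of_mem_normalizer' (hn hy) hx

theorem card_sup_dvd_of_le_normalizer {G : Type u} [Group G] [Finite G] (X Y : Subgroup G)
    (hn : Y ≤ normalizer (X : Set G)) :
    Nat.card (X ⊔ Y : Subgroup G) ∣ Nat.card X * Nat.card Y := by
  haveI : (X.subgroupOf (X ⊔ Y)).Normal := normal_subgroupOf_sup hn
  have h1 := Subgroup.card_eq_card_quotient_mul_card_subgroup (X.subgroupOf (X ⊔ Y))
  have h2 : Nat.card (X.subgroupOf (X ⊔ Y)) = Nat.card X :=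
    Nat.card_congr (Subgroup.subgroupOfEquivOfLe (le_sup_left : X ≤ X ⊔ Y)).toEquiv
  have h3 := Subgroup.card_dvd_of_surjective _ (sup_quot_surj X Y hn)
  rw [h1, h2, mul_comm]
  exact Nat.mul_dvd_mul_left _ h3

theorem isSolvable_sup_of_le_normalizer {G : Type u} [Group G] (X Y : Subgroup G)
    (hn : Y ≤ normalizer (X : Set G)) [hX : Group.IsSolvable X] [hY : Group.IsSolvable Y] :
    Group.IsSolvable (X ⊔ Y : Subgroup G) := by
  haveI : (X.subgroupOf (X ⊔ Y)).Normal := normal_subgroupOf_sup hn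
  haveI : Group.IsSolvable ((X ⊔ Y : Subgroup G) ⧸ X.subgroupOf (X ⊔ Y)) :=
    Group.isSolvable_of_surjective (sup_quot_surj X Y hn)
  refine Group.isSolvable_of_ker_le_range (Subgroup.inclusion (le_sup_left : X ≤ X ⊔ Y))
    (QuotientGroup.mk' (X.subgroupOf (X ⊔ Y))) ?_
  rw [QuotientGroup.ker_mk']
  rintro ⟨l, hl⟩ hl'
  rw [mem_subgroupOf] at hl'
  exact ⟨⟨l, hl'⟩, rfl⟩

/-- The centralizer of a singleton is the centralizer of the cyclic group. -/
theorem centralizer_zpowers_eq {G : Type u} [Group G] (a : G) :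
    centralizer ((zpowers a : Subgroup G) : Set G) = centralizer ({a} : Set G) := by
  apply le_antisymm
  · apply centralizer_le
    intro x hx
    rw [Set.mem_singleton_iff] at hx
    subst hx
    exact mem_zpowers x
  · intro g hg
    rw [mem_centralizer_iff] at hg ⊢
    rintro _ ⟨k, rfl⟩
    have h1 : Commute a g := hg a rfl
    exact (h1.zpow_left k).eq

theorem zpowers_le_normalizer_of_conj {G : Type u} [Group G] {a : G} {X : Subgroup G}
    (h : ∀ x ∈ X, a * x * a⁻¹ ∈ X) (h' : ∀ x ∈ X, a⁻¹ * x * a ∈ X) :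
    zpowers a ≤ normalizer (X : Set G) := by
  rw [zpowers_le, mem_normalizer_iff]
  intro x
  refine ⟨h x, fun hx => ?_⟩
  have := h' _ hx
  have e : a⁻¹ * (a * x * a⁻¹) * a = x := by group
  rwa [e] at this

theorem coprime_zpowers_of_pow_eq_one {G : Type u} [Group G] [Finite G] {p : ℕ} [hp : Fact p.Prime]
    {a : G} (ha : a ^ p = 1) {K : Subgroup G} (hK : ¬ p ∣ Nat.card K) :
    (Nat.card (zpowers a)).Coprime (Nat.card K) := by
  rw [Nat.card_zpowers]
  have h1 : orderOf a ∣ p := orderOf_dvd_of_pow_eq_one ha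
  exact Nat.Coprime.coprime_dvd_left h1 ((Nat.Prime.coprime_iff_not_dvd hp.out).mpr hK)

theorem isSolvable_zpowers {G : Type u} [Group G] (a : G) : Group.IsSolvable (zpowers a) := by
  haveI : IsMulCommutative (zpowers a) := inferInstance
  exact isSolvable_of_isMulCommutative _

end Cfsg.Agent.Lib.helper7
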