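import Mathlib
import Cfsg.Agent.Lib.helper7.SEmb
import Cfsg.Agent.Lib.helper1.Fitting
import Cfsg.Agent.Lib.helper6.Rank
import Cfsg.Agent.Lib.helper8.PGroupEA
import Cfsg.Agent.Lib.helper15.Omega
import Cfsg.Agent.S0071
import Cfsg.Agent.S0542

set_option autoImplicit false
set_option linter.style.haveILetI false
open scoped Pointwise
open scoped commutatorElement

namespace Cfsg.Agent.Lib.helper7

open Subgroup

universe u

/-- Trivial `p`-core and `p'`-core force a trivial Fitting subgroup. -/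
theorem fitting_bot_of_cores {Γ : Type u} [Group Γ] [Finite Γ] {p : ℕ} [hp : Fact p.Prime]
    (hO : Cfsg.pPrimeCore p Γ = ⊥) (hOp : Cfsg.pCore p Γ = ⊥) : Cfsg.fittingSubgroup Γ = ⊥ := by
  haveI hnil := fitting_nilpotent Γ
  have hcop : (Nat.card (Cfsg.fittingSubgroup Γ)).Coprime p := by
    obtain ⟨S⟩ : Nonempty (Sylow p ↥(Cfsg.fittingSubgroup Γ)) := inferInstance
    haveI hSn : (S : Subgroup ↥(Cfsg.fittingSubgroup Γ)).Normal :=
      Sylow.normal_of_normalizerCondition Group.normalizerCondition_of_isNilpotent S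
    have hsub : ((S : Subgroup ↥(Cfsg.fittingSubgroup Γ)).map
        (Cfsg.fittingSubgroup Γ).subtype).IsSubnormal :=
      (Subgroup.Normal.isSubnormal hSn).trans' (Subgroup.Normal.isSubnormal inferInstance)
    have hle : (S : Subgroup ↥(Cfsg.fittingSubgroup Γ)).map (Cfsg.fittingSubgroup Γ).subtype ≤
        Cfsg.pCore p Γ :=
      subnormal_le_rad (radHyp_pGroup p) hsub (S.isPGroup'.map _)
    rw [hOp] at hle
    have hSbot : (S : Subgroup ↥(Cfsg.fittingSubgroup Γ)) = ⊥ := by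
      rw [eq_bot_iff]; intro x hx
      have : (x : Γ) ∈ (⊥ : Subgroup Γ) := hle ⟨x, hx, rfl⟩
      rw [Subgroup.mem_bot] at this ⊢
      exact Subtype.ext this
    rw [Nat.coprime_comm, Nat.Prime.coprime_iff_not_dvd hp.out]
    intro hdvd
    exact S.ne_bot_of_dvd_card hdvd hSbot
  have hle : Cfsg.fittingSubgroup Γ ≤ Cfsg.pPrimeCore p Γ :=
    Cfsg.Agent.Lib.helper9.le_pPrimeCore inferInstance hcop
  rw [hO] at hle
  exact eq_bot_iff.mpr hle

/-- With trivial Fitting subgroup, components have trivial centre. -/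
theorem comp_center_bot {Γ : Type u} [Group Γ] [Finite Γ] (hF : Cfsg.fittingSubgroup Γ = ⊥)
    {L : Subgroup Γ} (hL : Cfsg.IsComponent L) : center ↥L = ⊥ := by
  have hsub : ((center ↥L).map L.subtype).IsSubnormal :=
    (Subgroup.Normal.isSubnormal inferInstance).trans' hL.1
  have hnil : Group.IsNilpotent ↥((center ↥L).map L.subtype) :=
    nilpotent_of_isMulComm (isMulComm_of_equiv
      ((center ↥L).equivMapOfInjective L.subtype L.subtype_injective) inferInstance)
  have hle := subnormal_nilpotent_le_fitting hsub hnil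
  rw [hF] at hle
  rw [eq_bot_iff]; intro x hx
  have : (x : Γ) ∈ (⊥ : Subgroup Γ) := hle ⟨x, hx, rfl⟩
  rw [Subgroup.mem_bot] at this ⊢
  exact Subtype.ext this

/-- With trivial `p'`-core, components have order divisible by `p`. -/
theorem comp_p_dvd {Γ : Type u} [Group Γ] [Finite Γ] {p : ℕ} [hp : Fact p.Prime]
    (hO : Cfsg.pPrimeCore p Γ = ⊥) {L : Subgroup Γ} (hL : Cfsg.IsComponent L) :
    p ∣ Nat.card L := by
  by_contra hnd
  have hcop : (Nat.card L).Coprime p :=
    ((Nat.Prime.coprime_iff_not_dvd hp.out).mpr hnd).symm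
  have hle := Cfsg.Agent.Lib.helper9.subnormal_le_pPrimeCore hL.1 hcop
  rw [hO] at hle
  obtain ⟨a, b, hab⟩ := qs_nontrivial hL.2
  apply hab
  have ha := hle a.2
  have hb := hle b.2
  rw [Subgroup.mem_bot] at ha hb
  exact Subtype.ext (ha.trans hb.symm)

/-- A component with trivial centre is a non-abelian simple group. -/
theorem comp_simple {Γ : Type u} [Group Γ] {L : Subgroup Γ} (hL : Cfsg.IsComponent L)
    (hZ : center ↥L = ⊥) : IsSimpleGroup ↥L ∧ ¬ IsMulCommutative ↥L := by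
  have hqs := hL.2
  constructor
  · haveI := hqs.2
    haveI := qs_nontrivial hqs
    let e : ↥L ⧸ center ↥L ≃* ↥L :=
      (QuotientGroup.quotientMulEquivOfEq hZ).trans QuotientGroup.quotientBot
    exact IsSimpleGroup.isSimpleGroup_of_surjective e.toMonoidHom e.surjective
  · intro hcomm
    exact qs_not_solvable hqs (solvable_of_isMulComm hcomm)

/-- Trivial Fitting subgroup and at most one component: `F*` is non-abelian simple. -/
theorem fstar_simple_of_unique {Γ : Type u} [Group Γ] [Finite Γ] (hne : Nontrivial Γ)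
    (hF : Cfsg.fittingSubgroup Γ = ⊥)
    (huniq : ∀ L₁ L₂ : Subgroup Γ, Cfsg.IsComponent L₁ → Cfsg.IsComponent L₂ → L₁ = L₂) :
    IsSimpleGroup ↥(Cfsg.generalizedFittingSubgroup Γ) ∧
      ¬ IsMulCommutative ↥(Cfsg.generalizedFittingSubgroup Γ) := by
  have hFstar : Cfsg.generalizedFittingSubgroup Γ = Cfsg.layer Γ := by
    unfold Cfsg.generalizedFittingSubgroup; rw [hF, sup_bot_eq]
  have hlayer_ne : Cfsg.layer Γ ≠ ⊥ := by
    intro hbot
    have h1 := centralizer_genFitting_le Γ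
    rw [hFstar, hbot] at h1
    have htop : (⊤ : Subgroup Γ) ≤ ⊥ := by
      refine le_trans ?_ h1
      intro x _
      rw [mem_centralizer_iff]; intro h hh
      rw [Subgroup.mem_bot.mp hh]; simp
    obtain ⟨a, b, hab⟩ := hne
    apply hab
    have ha := htop (Subgroup.mem_top a)
    have hb := htop (Subgroup.mem_top b)
    rw [Subgroup.mem_bot] at ha hb
    exact ha.trans hb.symm
  obtain ⟨L, hL⟩ : ∃ L : Subgroup Γ, Cfsg.IsComponent L := by
    by_contra hno
    push Not at hno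
    apply hlayer_ne
    unfold Cfsg.layer
    rw [eq_bot_iff]
    exact sSup_le (fun K hK => absurd hK (hno K))
  have hlayerL : Cfsg.layer Γ = L := by
    apply le_antisymm
    · exact sSup_le (fun K hK => by rw [huniq K L hK hL])
    · exact comp_le_layer hL
  rw [hFstar, hlayerL]
  exact comp_simple hL (comp_center_bot hF hL)

/-- Distinct components commute elementwise. -/
theorem comp_comm_elem {Γ : Type u} [Group Γ] [Finite Γ] {L₁ L₂ : Subgroup Γ}
    (h₁ : Cfsg.IsComponent L₁) (h₂ : Cfsg.IsComponent L₂) (hne : L₁ ≠ L₂) {a b : Γ}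
    (ha : a ∈ L₁) (hb : b ∈ L₂) : a * b = b * a := by
  have hcomm := comp_comm_of_ne h₁ h₂ hne
  have h1 : ⁅a, b⁆ ∈ ⁅L₁, L₂⁆ := Subgroup.commutator_mem_commutator ha hb
  rw [hcomm, Subgroup.mem_bot] at h1
  exact commutatorElement_eq_one_iff_mul_comm.mp h1

/-- Distinct components, the first with trivial centre, meet trivially. -/
theorem comp_inf_eq_one {Γ : Type u} [Group Γ] [Finite Γ] {L₁ L₂ : Subgroup Γ}
    (h₁ : Cfsg.IsComponent L₁) (h₂ : Cfsg.IsComponent L₂) (hne : L₁ ≠ L₂)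
    (hZ : center ↥L₁ = ⊥) {u : Γ} (hu₁ : u ∈ L₁) (hu₂ : u ∈ L₂) : u = 1 := by
  have hc : (⟨u, hu₁⟩ : ↥L₁) ∈ center ↥L₁ := by
    rw [Subgroup.mem_center_iff]
    intro g
    apply Subtype.ext
    exact comp_comm_elem h₁ h₂ hne g.2 hu₂
  rw [hZ, Subgroup.mem_bot] at hc
  exact congrArg Subtype.val hc

/-- A subnormal subgroup of order divisible by `p` contains an element of order `p` of any
given Sylow `p`-subgroup. -/
theorem subnormal_sylow_elem {Γ : Type u} [Group Γ] [Finite Γ] {p : ℕ} [hp : Fact p.Prime]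
    (P : Sylow p Γ) {L : Subgroup Γ} (hL : L.IsSubnormal) (hpL : p ∣ Nat.card L) :
    ∃ a : Γ, a ∈ (P : Subgroup Γ) ∧ a ∈ L ∧ orderOf a = p := by
  obtain ⟨Q, hQ⟩ := Cfsg.Agent.S0542.result p L hL P
  have h1 : p ∣ Nat.card (Q : Subgroup ↥L) := Q.dvd_card_of_dvd_card hpL
  obtain ⟨a, ha⟩ := exists_prime_orderOf_dvd_card' (G := ↥(Q : Subgroup ↥L)) p h1
  refine ⟨((a : ↥L) : Γ), ?_, (a : ↥L).2, ?_⟩
  · have hmem : ∀ y : ↥L, y ∈ (Q : Subgroup ↥L) → (y : Γ) ∈ (P : Subgroup Γ) := by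
      intro y hy; rw [hQ, Subgroup.mem_subgroupOf] at hy; exact hy
    exact hmem _ a.2
  · rw [Subgroup.orderOf_coe, Subgroup.orderOf_coe]; exact ha

theorem mem_sup_zpowers {G : Type*} [Group G] (a b : G) (hab : a * b = b * a) (u : G)
    (hu : u ∈ zpowers a ⊔ zpowers b) : ∃ i j : ℤ, u = a ^ i * b ^ j := by
  have hc : Commute a b := hab
  rw [Subgroup.zpowers_eq_closure, Subgroup.zpowers_eq_closure, ← Subgroup.closure_union] at hu
  induction hu using Subgroup.closure_induction with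
  | mem x hx =>
    rcases hx with hx | hx
    · rw [Set.mem_singleton_iff] at hx; exact ⟨1, 0, by simp [hx]⟩
    · rw [Set.mem_singleton_iff] at hx; exact ⟨0, 1, by simp [hx]⟩
  | one => exact ⟨0, 0, by simp⟩
  | mul x y _ _ hx hy =>
    obtain ⟨i, j, rfl⟩ := hx
    obtain ⟨k, l, rfl⟩ := hy
    refine ⟨i + k, j + l, ?_⟩
    rw [zpow_add, zpow_add]
    have h1 : b ^ j * a ^ k = a ^ k * b ^ j := ((hc.zpow_zpow k j).eq).symm
    calc a ^ i * b ^ j * (a ^ k * b ^ l) = a ^ i * (b ^ j * a ^ k) * b ^ l := by group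
      _ = a ^ i * (a ^ k * b ^ j) * b ^ l := by rw [h1]
      _ = a ^ i * a ^ k * (b ^ j * b ^ l) := by group
  | inv x _ hx =>
    obtain ⟨i, j, rfl⟩ := hx
    refine ⟨-i, -j, ?_⟩
    rw [mul_inv_rev, ← zpow_neg, ← zpow_neg]
    exact ((hc.zpow_zpow (-i) (-j)).eq).symm

theorem card_lt_of_lt' {G : Type*} [Group G] [Finite G] {N K : Subgroup G} (h : N < K) :
    Nat.card N < Nat.card K := by
  refine lt_of_le_of_ne (Subgroup.card_le_of_le h.le) ?_
  intro heq
  exact h.ne (Subgroup.eq_of_le_of_card_ge h.le heq.ge)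

/-- In a group of `p`-rank at most `2`: an element `u` with `u ^ p = 1` commuting with two
independent commuting elements `a`, `b` of order `p` lies in `⟨a, b⟩`. -/
theorem rank_mem {Γ : Type u} [Group Γ] [Finite Γ] {p : ℕ} [hp : Fact p.Prime]
    (hr : Cfsg.PRankLE p 2 Γ) (a b u : Γ) (ha : orderOf a = p) (hb : b ^ p = 1)
    (hu : u ^ p = 1) (hab : a * b = b * a) (hau : a * u = u * a) (hbu : b * u = u * b)
    (hba : b ∉ zpowers a) : u ∈ zpowers a ⊔ zpowers b := by
  have hE0 : Cfsg.IsElementaryAbelian p (zpowers a) := by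
    refine ⟨inferInstance, ?_⟩
    intro y hy
    obtain ⟨i, rfl⟩ := Subgroup.mem_zpowers_iff.mp hy
    rw [← zpow_natCast, ← zpow_mul, mul_comm, zpow_mul, zpow_natCast, ← ha, pow_orderOf_eq_one,
      one_zpow]
  have hbC : b ∈ centralizer (zpowers a : Set Γ) := by
    rw [Subgroup.mem_centralizer_iff]
    intro h hh
    obtain ⟨i, rfl⟩ := Subgroup.mem_zpowers_iff.mp hh
    exact ((Commute.zpow_left (show Commute a b from hab) i)).eq
  have hE1 := Cfsg.Agent.Lib.helper8.isElementaryAbelian_sup_zpowers p (zpowers a) hE0 b hbC hb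
  have huC : u ∈ centralizer ((zpowers a ⊔ zpowers b : Subgroup Γ) : Set Γ) := by
    rw [Subgroup.mem_centralizer_iff]
    intro h hh
    obtain ⟨i, j, rfl⟩ := mem_sup_zpowers a b hab h hh
    have h1 : Commute (a ^ i) u := (Commute.zpow_left (show Commute a u from hau) i)
    have h2 : Commute (b ^ j) u := (Commute.zpow_left (show Commute b u from hbu) j)
    exact (h1.mul_left h2).eq
  have hE2 := Cfsg.Agent.Lib.helper8.isElementaryAbelian_sup_zpowers p _ hE1 u huC hu
  have hcard2 := hr _ hE2.1 hE2.2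
  have hVp : IsPGroup p ↥(zpowers a ⊔ zpowers b : Subgroup Γ) :=
    Cfsg.Agent.Lib.helper6.isPGroup_of_exp hE1.2
  obtain ⟨k, hk⟩ := IsPGroup.iff_card.mp hVp
  have hlt : zpowers a < zpowers a ⊔ zpowers b := by
    refine lt_of_le_of_ne le_sup_left ?_
    intro h
    apply hba
    rw [h]
    exact (le_sup_right : zpowers b ≤ _) (mem_zpowers b)
  have hcardlt := card_lt_of_lt' hlt
  rw [Nat.card_zpowers, ha, hk] at hcardlt
  have hk2 : 2 ≤ k := by
    by_contra hlt2
    have hk1 : k ≤ 1 := by omega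
    have : p ^ k ≤ p ^ 1 := Nat.pow_le_pow_right hp.out.pos hk1
    rw [pow_one] at this
    omega
  have hge : p ^ 2 ≤ Nat.card ↥(zpowers a ⊔ zpowers b : Subgroup Γ) := by
    rw [hk]; exact Nat.pow_le_pow_right hp.out.pos hk2
  have heq : zpowers a ⊔ zpowers b = (zpowers a ⊔ zpowers b) ⊔ zpowers u :=
    Subgroup.eq_of_le_of_card_ge le_sup_left (le_trans hcard2 hge)
  rw [heq]
  exact (le_sup_right : zpowers u ≤ _) (mem_zpowers u)

/-- Frobenius' criterion plus the `Ω₁` lemma: for `p` odd, if no element of order dividing `p`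
of a Sylow `p`-subgroup is fused to another element of that Sylow subgroup, the group has a
normal `p`-complement. -/
theorem npc_of_no_fusion {H : Type u} [Group H] [Finite H] {p : ℕ} [Fact p.Prime] (hp2 : p ≠ 2)
    (P : Sylow p H)
    (h : ∀ u ∈ (P : Subgroup H), u ^ p = 1 → ∀ g : H, g * u * g⁻¹ ∈ (P : Subgroup H) →
      g * u * g⁻¹ = u) :
    ∃ N : Subgroup H, N.Normal ∧ N.IsComplement' (P : Subgroup H) := by
  rw [Cfsg.Agent.S0071.result P]
  intro Q hQ g hg hcop
  apply Cfsg.Agent.Lib.helper15.omega_centralize hp2 Q (P.isPGroup'.to_le hQ) g hg hcop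
  intro u hu hup
  have h1 : g * u * g⁻¹ ∈ Q := (Subgroup.mem_normalizer_iff.mp hg u).mp hu
  have h2 := h u (hQ hu) hup g (hQ h1)
  show g * u = u * g
  calc g * u = (g * u * g⁻¹) * g := by group
    _ = u * g := by rw [h2]

/-- Relative form of `npc_of_no_fusion` for a subnormal subgroup. -/
theorem npc_sub {Γ : Type u} [Group Γ] [Finite Γ] {p : ℕ} [Fact p.Prime] (hp2 : p ≠ 2)
    (P : Sylow p Γ) (H : Subgroup Γ) (hH : H.IsSubnormal)
    (h : ∀ u ∈ (P : Subgroup Γ), u ∈ H → u ^ p = 1 → ∀ g ∈ H,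
      g * u * g⁻¹ ∈ (P : Subgroup Γ) → g * u * g⁻¹ = u) :
    ∃ (Q : Sylow p ↥H) (N : Subgroup ↥H), (Q : Subgroup ↥H) = (P : Subgroup Γ).subgroupOf H ∧
      N.Normal ∧ N.IsComplement' (Q : Subgroup ↥H) := by
  obtain ⟨Q, hQ⟩ := Cfsg.Agent.S0542.result p H hH P
  have hmem : ∀ y : ↥H, y ∈ (Q : Subgroup ↥H) ↔ (y : Γ) ∈ (P : Subgroup Γ) := by
    intro y; rw [hQ, Subgroup.mem_subgroupOf]
  obtain ⟨N, hN, hc⟩ := npc_of_no_fusion hp2 Q (by
    intro u hu hup g hgu
    apply Subtype.ext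
    have hup' : (u : Γ) ^ p = 1 := by
      have := congrArg Subtype.val hup
      simpa only [Subgroup.coe_pow, Subgroup.coe_one] using this
    have hgu' : (g : Γ) * (u : Γ) * (g : Γ)⁻¹ ∈ (P : Subgroup Γ) := by
      simpa using (hmem _).mp hgu
    have := h (u : Γ) ((hmem u).mp hu) u.2 hup' (g : Γ) g.2 hgu'
    simpa using this)
  exact ⟨Q, N, hQ, hN, hc⟩

/-- A non-abelian simple group of order divisible by `p` has no normal `p`-complement. -/
theorem not_npc_of_simple {L : Type*} [Group L] [Finite L] {p : ℕ} [hp : Fact p.Prime]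
    [IsSimpleGroup L] (hna : ¬ IsMulCommutative L) (hpL : p ∣ Nat.card L) :
    ¬ Cfsg.HasNormalPComplement p L := by
  rintro ⟨Q, N, hNn, hcompl⟩
  have hcard := hcompl.card_mul_card
  rcases hNn.eq_bot_or_eq_top with hN | hN
  · rw [hN, Subgroup.card_bot, one_mul] at hcard
    obtain ⟨n, hn⟩ := IsPGroup.iff_card.mp Q.isPGroup'
    have hpg : IsPGroup p L := IsPGroup.of_card (n := n) (by rw [← hcard, hn])
    haveI : Group.IsNilpotent L := hpg.isNilpotent
    have hsol : Group.IsSolvable L := inferInstance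
    apply hna
    exact ⟨⟨fun a b => IsSimpleGroup.comm_iff_isSolvable.mpr hsol a b⟩⟩
  · rw [hN, Subgroup.card_top] at hcard
    have h1 : Nat.card (Q : Subgroup L) = 1 := by
      have hpos : 0 < Nat.card L := Nat.card_pos
      have : Nat.card L * Nat.card (Q : Subgroup L) = Nat.card L * 1 := by rw [hcard, mul_one]
      exact Nat.eq_of_mul_eq_mul_left hpos this
    have h2 := Q.dvd_card_of_dvd_card hpL
    rw [h1] at h2
    exact hp.out.one_lt.ne' (Nat.dvd_one.mp h2)

end Cfsg.Agent.Lib.helper7
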