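import Mathlib

set_option autoImplicit false

/-! A non-central element of order `p` in a group of class two with commutator subgroup of odd
prime order `p` whose centre has index at least `p ^ 2` and whose central elements of order
dividing `p` all lie in the commutator subgroup (piece (C) for S4067). -/

namespace Cfsg.Agent.Lib.helper7.AutOrbC

open scoped commutatorElement

theorem pow_mul_central {G : Type*} [Group G] (x y c : G) (hc : ∀ z : G, c * z = z * c)
    (hyx : y * x = c * x * y) (n : ℕ) : y ^ n * x = c ^ n * x * y ^ n := by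
  induction n with
  | zero => simp
  | succ n ih =>
    have e : y ^ n * c = c * y ^ n := (hc (y ^ n)).symm
    calc y ^ (n + 1) * x = y ^ n * (y * x) := by rw [pow_succ, mul_assoc]
      _ = y ^ n * (c * x * y) := by rw [hyx]
      _ = (y ^ n * c) * x * y := by simp only [mul_assoc]
      _ = (c * y ^ n) * x * y := by rw [e]
      _ = c * (y ^ n * x) * y := by simp only [mul_assoc]
      _ = c * (c ^ n * x * y ^ n) * y := by rw [ih]
      _ = c ^ (n + 1) * x * y ^ (n + 1) := by
          rw [pow_succ' c n, pow_succ y n]; simp only [mul_assoc]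

theorem mul_pow_central {G : Type*} [Group G] (x y c : G) (hc : ∀ z : G, c * z = z * c)
    (hyx : y * x = c * x * y) (n : ℕ) :
    (x * y) ^ n = c ^ (∑ i ∈ Finset.range n, i) * x ^ n * y ^ n := by
  have hc' : ∀ (m : ℕ) (z : G), c ^ m * z = z * c ^ m := fun m z =>
    ((show Commute c z from hc z).pow_left m).eq
  induction n with
  | zero => simp
  | succ n ih =>
    have e1 := pow_mul_central x y c hc hyx n
    have e2 : x ^ n * c ^ n = c ^ n * x ^ n := (hc' n (x ^ n)).symm
    calc (x * y) ^ (n + 1) = (x * y) ^ n * (x * y) := pow_succ _ _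
      _ = c ^ (∑ i ∈ Finset.range n, i) * x ^ n * y ^ n * (x * y) := by rw [ih]
      _ = c ^ (∑ i ∈ Finset.range n, i) * x ^ n * (y ^ n * x) * y := by simp only [mul_assoc]
      _ = c ^ (∑ i ∈ Finset.range n, i) * x ^ n * (c ^ n * x * y ^ n) * y := by rw [e1]
      _ = c ^ (∑ i ∈ Finset.range n, i) * (x ^ n * c ^ n) * x * y ^ n * y := by
          simp only [mul_assoc]
      _ = c ^ (∑ i ∈ Finset.range n, i) * (c ^ n * x ^ n) * x * y ^ n * y := by rw [e2]
      _ = c ^ (∑ i ∈ Finset.range (n + 1), i) * x ^ (n + 1) * y ^ (n + 1) := by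
          rw [Finset.sum_range_succ, pow_add, pow_succ x n, pow_succ y n]
          simp only [mul_assoc]

theorem caseB_odd_exists {G : Type*} [Group G] [Finite G] {p : ℕ} (hp : p.Prime) (hp2 : p ≠ 2)
    (hD : Nat.card (commutator G) = p) (hDZ : commutator G ≤ Subgroup.center G)
    (hidx : p ^ 2 ≤ (Subgroup.center G).index)
    (hE : ∀ e ∈ Subgroup.center G, e ^ p = 1 → e ∈ commutator G) :
    ∃ u : G, u ∉ Subgroup.center G ∧ u ^ p = 1 := by
  by_contra hcon
  have hcon' : ∀ u : G, u ^ p = 1 → u ∈ Subgroup.center G := by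
    intro u hu
    by_contra hu'
    exact hcon ⟨u, hu', hu⟩
  have hcm : ∀ x y : G, ⁅x, y⁆ ∈ commutator G := by
    intro x y
    rw [commutator_def]
    exact Subgroup.commutator_mem_commutator (Subgroup.mem_top x) (Subgroup.mem_top y)
  have hcz : ∀ x y z : G, ⁅x, y⁆ * z = z * ⁅x, y⁆ := fun x y z =>
    (Subgroup.mem_center_iff.1 (hDZ (hcm x y)) z).symm
  have hcp : ∀ x y : G, ⁅x, y⁆ ^ p = 1 := by
    intro x y
    have h : (⟨⁅x, y⁆, hcm x y⟩ : commutator G) ^ Nat.card (commutator G) = 1 :=
      pow_card_eq_one'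
    rw [hD] at h
    exact congrArg Subtype.val h
  have hyx : ∀ x y : G, y * x = ⁅y, x⁆ * x * y := by
    intro x y
    rw [commutatorElement_def]; group
  -- `x ↦ x ^ p` is a homomorphism
  have hsum : p ∣ ∑ i ∈ Finset.range p, i := by
    have h2 : (∑ i ∈ Finset.range p, i) * 2 = p * (p - 1) := Finset.sum_range_id_mul_two p
    have hcop : Nat.Coprime p 2 := (Nat.coprime_primes hp Nat.prime_two).2 hp2
    exact hcop.dvd_of_dvd_mul_right (h2 ▸ Dvd.intro _ rfl)
  have hmul : ∀ x y : G, (x * y) ^ p = x ^ p * y ^ p := by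
    intro x y
    rw [mul_pow_central x y ⁅y, x⁆ (hcz y x) (hyx x y) p]
    obtain ⟨k, hk⟩ := hsum
    rw [hk, pow_mul, hcp, one_pow, one_mul]
  obtain ⟨φ, hφ⟩ : ∃ φ : G →* G, ∀ x, φ x = x ^ p :=
    ⟨{ toFun := fun x => x ^ p, map_one' := one_pow p, map_mul' := hmul }, fun _ => rfl⟩
  have hker : φ.ker ≤ commutator G := by
    intro x hx
    have hx' : x ^ p = 1 := by rw [← hφ]; exact hx
    exact hE x (hcon' x hx') hx'
  have hrange : φ.range ≤ Subgroup.center G := by
    rintro _ ⟨x, rfl⟩
    rw [hφ, Subgroup.mem_center_iff]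
    intro z
    have h := pow_mul_central z x ⁅x, z⁆ (hcz x z) (hyx z x) p
    rw [hcp, one_mul] at h
    exact h.symm
  have h1 : Nat.card φ.ker * φ.ker.index = Nat.card G := Subgroup.card_mul_index _
  have h2 : φ.ker.index = Nat.card φ.range := Subgroup.index_ker φ
  have h3 : Nat.card φ.ker ≤ p := hD ▸ Subgroup.card_le_of_le hker
  have h4 : Nat.card φ.range ≤ Nat.card (Subgroup.center G) := Subgroup.card_le_of_le hrange
  have h5 : Nat.card (Subgroup.center G) * (Subgroup.center G).index = Nat.card G :=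
    Subgroup.card_mul_index _
  have hZpos : 0 < Nat.card (Subgroup.center G) := Nat.card_pos
  have hp2' := hp.two_le
  have h6 : Nat.card G ≤ p * Nat.card (Subgroup.center G) := by
    rw [← h1, h2]
    exact Nat.mul_le_mul h3 h4
  have h7 : Nat.card (Subgroup.center G) * p ^ 2 ≤ Nat.card G := by
    rw [← h5]
    exact Nat.mul_le_mul_left _ hidx
  nlinarith

end Cfsg.Agent.Lib.helper7.AutOrbC
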