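import Mathlib
import Cfsg.Agent.S0659
import Cfsg.Agent.Lib.helper15.ZJ
import Cfsg.Agent.Lib.helper15.ZJT
import Cfsg.Agent.Lib.helper7.ZJInnA

set_option autoImplicit false

/-! An axiomatic version of Glauberman's ZJ-theorem and of the Glauberman–Thompson criterion,
for a family of abelian subgroups of a Sylow subgroup satisfying an invariance and a replacement
condition. -/

namespace Cfsg.Agent.Lib.helper7.AxZJ

open Cfsg Cfsg.Agent.Lib.helper15 Cfsg.Agent.Lib.helper8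
open scoped commutatorElement

universe u

/-- The generic part of the ZJ-argument: reduction to normal `p`-subgroups of class at most two
generated by the conjugates of their intersection with `I`. -/
theorem inter_normal {G : Type u} [Group G] [Finite G] {p : ℕ} [Fact p.Prime]
    (P : Sylow p G) (I : Subgroup G)
    (hIc : ∀ x ∈ I, ∀ y ∈ I, x * y = y * x)
    (hPI : ∀ g ∈ (P : Subgroup G), ∀ x ∈ I, g * x * g⁻¹ ∈ I)
    (hkey : ∀ B : Subgroup G, B.Normal → IsPGroup p B →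
      Subgroup.normalClosure ((I ⊓ B : Subgroup G) : Set G) = B → ⁅⁅B, B⁆, B⁆ = ⊥ →
      ⁅B, B⁆ ≤ I → B ≤ I) :
    ∀ (B : Subgroup G), B.Normal → IsPGroup p B → (I ⊓ B).Normal := by
  intro B
  induction' hcard : Nat.card B using Nat.strong_induction_on with n ih generalizing B
  intro hBn hBp
  by_contra hXn
  have hBP : B ≤ (P : Subgroup G) := normal_pgroup_le_sylow B hBn hBp P
  have hB1 : Subgroup.normalClosure ((I ⊓ B : Subgroup G) : Set G) = B := by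
    by_contra hne
    have hle : Subgroup.normalClosure ((I ⊓ B : Subgroup G) : Set G) ≤ B :=
      Subgroup.normalClosure_le_normal inf_le_right
    have hlt := lt_card_of_lt (lt_of_le_of_ne hle hne)
    rw [hcard] at hlt
    have h1 := ih _ hlt _ rfl Subgroup.normalClosure_normal (hBp.to_le hle)
    have e : I ⊓ Subgroup.normalClosure ((I ⊓ B : Subgroup G) : Set G) = I ⊓ B :=
      le_antisymm (inf_le_inf_left _ hle) (le_inf inf_le_left Subgroup.le_normalClosure)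
    rw [e] at h1; exact hXn h1
  have hBne : B ≠ ⊥ := by
    intro h0
    apply hXn
    have : I ⊓ B = ⊥ := by rw [h0]; exact inf_bot_eq _
    rw [this]; exact Subgroup.normal_bot
  haveI : Group.IsNilpotent ↥B := hBp.isNilpotent
  have hB'lt : ⁅B, B⁆ < B := commutator_lt_of_solvable B hBne
  have hB'n : (⁅B, B⁆ : Subgroup G).Normal := Subgroup.commutator_normal B B
  have hB'le : ⁅B, B⁆ ≤ B := hB'lt.le
  have hYn : (I ⊓ ⁅B, B⁆).Normal := by
    have hlt := lt_card_of_lt hB'lt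
    rw [hcard] at hlt
    exact ih _ hlt _ rfl hB'n (hBp.to_le hB'le)
  have hXB : ∀ x ∈ I ⊓ B, ∀ b ∈ B, ⁅x, b⁆ ∈ I ⊓ ⁅B, B⁆ := by
    intro x hx b hb
    refine ⟨?_, Subgroup.commutator_mem_commutator hx.2 hb⟩
    have e : ⁅x, b⁆ = x * (b * x⁻¹ * b⁻¹) := by simp only [commutatorElement_def]; group
    rw [e]
    exact Subgroup.mul_mem _ hx.1 (hPI b (hBP hb) _ (Subgroup.inv_mem _ hx.1))
  have hBBY : ⁅B, B⁆ ≤ I ⊓ ⁅B, B⁆ := by
    let T : Subgroup G :=
      { carrier := {h | ∀ b ∈ B, ⁅h, b⁆ ∈ I ⊓ ⁅B, B⁆}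
        mul_mem' := by
          intro h h' hh hh' b hb
          have e : ⁅h * h', b⁆ = h * ⁅h', b⁆ * h⁻¹ * ⁅h, b⁆ := by
            simp only [commutatorElement_def]; group
          rw [e]
          exact Subgroup.mul_mem _ (hYn.conj_mem _ (hh' b hb) h) (hh b hb)
        one_mem' := by
          intro b _
          have : ⁅(1 : G), b⁆ = 1 := by simp [commutatorElement_def]
          rw [this]; exact Subgroup.one_mem _
        inv_mem' := by
          intro h hh b hb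
          have e : ⁅h⁻¹, b⁆ = h⁻¹ * ⁅h, b⁆⁻¹ * h⁻¹⁻¹ := by
            simp only [commutatorElement_def]; group
          rw [e]
          exact hYn.conj_mem _ (Subgroup.inv_mem _ (hh b hb)) h⁻¹ }
    have hBT : B ≤ T := by
      rw [← hB1]
      show Subgroup.closure (Group.conjugatesOfSet _) ≤ T
      rw [Subgroup.closure_le]
      intro y hy b hb
      obtain ⟨x, hx, hcj⟩ := Group.mem_conjugatesOfSet_iff.mp hy
      obtain ⟨g, rfl⟩ := isConj_iff.mp hcj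
      have hb' : g⁻¹ * b * g ∈ B := by
        have := hBn.conj_mem b hb g⁻¹
        rwa [inv_inv] at this
      have e : ⁅g * x * g⁻¹, b⁆ = g * ⁅x, g⁻¹ * b * g⁆ * g⁻¹ := by
        simp only [commutatorElement_def]; group
      rw [e]
      exact hYn.conj_mem _ (hXB x hx _ hb') g
    rw [Subgroup.commutator_le]
    intro b₁ hb₁ b₂ hb₂
    exact hBT hb₁ b₂ hb₂
  have hB'I : ⁅B, B⁆ ≤ I := hBBY.trans inf_le_left
  have hB2 : ⁅⁅B, B⁆, B⁆ = ⊥ := by
    rw [eq_bot_iff, Subgroup.commutator_le]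
    intro c hc b hb
    rw [Subgroup.mem_bot, commutatorElement_eq_one_iff_mul_comm]
    have hle : B ≤ Subgroup.centralizer ({c} : Set G) := by
      rw [← hB1]
      show Subgroup.closure (Group.conjugatesOfSet _) ≤ _
      rw [Subgroup.closure_le]
      intro y hy
      obtain ⟨x, hx, hcj⟩ := Group.mem_conjugatesOfSet_iff.mp hy
      obtain ⟨g, rfl⟩ := isConj_iff.mp hcj
      have hc' : g⁻¹ * c * g ∈ I := by
        have := hB'n.conj_mem c hc g⁻¹
        rw [inv_inv] at this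
        exact hB'I this
      have h1 := hIc _ hc' x hx.1
      rw [SetLike.mem_coe, Subgroup.mem_centralizer_singleton_iff]
      calc g * x * g⁻¹ * c = g * (x * (g⁻¹ * c * g)) * g⁻¹ := by group
        _ = g * ((g⁻¹ * c * g) * x) * g⁻¹ := by rw [h1]
        _ = c * (g * x * g⁻¹) := by group
    exact (Subgroup.mem_centralizer_singleton_iff.mp (hle hb)).symm
  apply hXn
  have hBI : B ≤ I := hkey B hBn hBp hB1 hB2 hB'I
  have : I ⊓ B = B := inf_eq_right.mpr hBI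
  rw [this]; exact hBn

/-- The axiomatic ZJ-theorem: the intersection of a family of abelian subgroups of a Sylow
`p`-subgroup satisfying invariance and replacement is normal in a `p`-stable group `G` with
`C_G(O_p(G)) ≤ O_p(G)`. -/
theorem ax_normal {G : Type u} [Group G] [Finite G] {p : ℕ} [Fact p.Prime]
    (P : Sylow p G) (𝒜 : Set (Subgroup G)) (hne : 𝒜.Nonempty)
    (h𝒜 : ∀ A ∈ 𝒜, A ≤ (P : Subgroup G) ∧ ∀ a ∈ A, ∀ b ∈ A, a * b = b * a)
    (hinv : ∀ Q : Subgroup G, Q ≤ (P : Subgroup G) → (∃ A ∈ 𝒜, A ≤ Q) →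
      ∀ g ∈ Subgroup.normalizer (Q : Set G), ∀ x ∈ sInf {A | A ∈ 𝒜 ∧ A ≤ Q},
        g * x * g⁻¹ ∈ sInf {A | A ∈ 𝒜 ∧ A ≤ Q})
    (hrep : ∀ B : Subgroup G, B ≤ (P : Subgroup G) → ⁅⁅B, B⁆, B⁆ = ⊥ →
      (∃ A ∈ 𝒜, ⁅B, B⁆ ≤ A ∧ ¬ B ≤ A) →
      ∃ A ∈ 𝒜, ⁅B, B⁆ ≤ A ∧ ¬ B ≤ A ∧ B ≤ Subgroup.normalizer (A : Set G))
    (hst : ZStab p G)
    (hc : Subgroup.centralizer (Cfsg.pCore p G : Set G) ≤ Cfsg.pCore p G) :
    (sInf 𝒜).Normal := by
  obtain ⟨A₀, hA₀⟩ := hne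
  have hIA : ∀ A ∈ 𝒜, sInf 𝒜 ≤ A := fun A hA => sInf_le hA
  have hIc : ∀ x ∈ sInf 𝒜, ∀ y ∈ sInf 𝒜, x * y = y * x :=
    fun x hx y hy => (h𝒜 A₀ hA₀).2 x (hIA _ hA₀ hx) y (hIA _ hA₀ hy)
  have hPI : ∀ g ∈ (P : Subgroup G), ∀ x ∈ sInf 𝒜, g * x * g⁻¹ ∈ sInf 𝒜 := by
    intro g hg x hx
    have e : {A | A ∈ 𝒜 ∧ A ≤ (P : Subgroup G)} = 𝒜 := by
      ext A; exact ⟨fun h => h.1, fun h => ⟨h, (h𝒜 A h).1⟩⟩
    have h1 := hinv (P : Subgroup G) le_rfl ⟨A₀, hA₀, (h𝒜 A₀ hA₀).1⟩ g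
      (Subgroup.le_normalizer hg) x (by rw [e]; exact hx)
    rw [e] at h1; exact h1
  have hkey : ∀ B : Subgroup G, B.Normal → IsPGroup p B →
      Subgroup.normalClosure ((sInf 𝒜 ⊓ B : Subgroup G) : Set G) = B → ⁅⁅B, B⁆, B⁆ = ⊥ →
      ⁅B, B⁆ ≤ sInf 𝒜 → B ≤ sInf 𝒜 := by
    intro B hBn hBp hB1 hB2 hB'I
    by_contra hBI
    have hBP : B ≤ (P : Subgroup G) := normal_pgroup_le_sylow B hBn hBp P
    have hex : ∃ A ∈ 𝒜, ¬ B ≤ A := by
      by_contra hcon
      push Not at hcon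
      exact hBI (le_sInf hcon)
    obtain ⟨A₁, hA₁, hA₁B⟩ := hex
    obtain ⟨A, hA, hB'A, hBA, hBNA⟩ :=
      hrep B hBP hB2 ⟨A₁, hA₁, hB'I.trans (sInf_le hA₁), hA₁B⟩
    obtain ⟨K, hKn, hCK, ⟨n₁, hn₁⟩, hquad⟩ := hst B hBn hBp
    have hAK : A ≤ (P : Subgroup G) ⊓ K := by
      intro a ha
      refine ⟨(h𝒜 A hA).1 ha, hquad a (fun b hb => ?_)⟩
      have h1 : ⁅b, a⁆ ∈ A := by
        rw [commutatorElement_def]
        exact A.mul_mem (conj_mem_of_mem_normalizer (hBNA hb) ha) (A.inv_mem ha)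
      exact commutatorElement_eq_one_iff_mul_comm.mpr ((h𝒜 A hA).2 _ h1 a ha)
    haveI hCn : (Subgroup.centralizer (B : Set G)).Normal := by
      haveI := hBn
      exact Subgroup.normal_centralizer
    have hdecomp := zstab_decomp P (Subgroup.centralizer (B : Set G)) K n₁ hn₁
    obtain ⟨I₁, hI₁⟩ : ∃ I₁, I₁ = sInf {A' | A' ∈ 𝒜 ∧ A' ≤ (P : Subgroup G) ⊓ K} := ⟨_, rfl⟩
    have hII₁ : sInf 𝒜 ≤ I₁ := by rw [hI₁]; exact sInf_le_sInf (fun A' h => h.1)
    have hX₁n : (I₁ ⊓ B).Normal := by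
      refine ⟨fun x hx g => ?_⟩
      obtain ⟨c, hc, m, hm, rfl⟩ := hdecomp g
      have h2 : m * x * m⁻¹ ∈ I₁ ⊓ B := by
        refine ⟨?_, hBn.conj_mem x hx.2 m⟩
        rw [hI₁]
        exact hinv _ inf_le_left ⟨A, hA, hAK⟩ m hm x (by rw [← hI₁]; exact hx.1)
      have h3 := Subgroup.mem_centralizer_iff.mp hc _ h2.2
      have e : c * m * x * (c * m)⁻¹ = m * x * m⁻¹ := by
        calc c * m * x * (c * m)⁻¹ = (c * (m * x * m⁻¹)) * c⁻¹ := by group
          _ = ((m * x * m⁻¹) * c) * c⁻¹ := by rw [h3]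
          _ = m * x * m⁻¹ := by group
      rw [e]; exact h2
    have hBI₁ : B ≤ I₁ := by
      have h1 : Subgroup.normalClosure ((sInf 𝒜 ⊓ B : Subgroup G) : Set G) ≤ I₁ ⊓ B :=
        Subgroup.normalClosure_le_normal (inf_le_inf_right _ hII₁)
      rw [hB1] at h1
      exact h1.trans inf_le_left
    apply hBA
    apply hBI₁.trans
    rw [hI₁]
    exact sInf_le ⟨hA, hAK⟩
  have hQn : (Cfsg.pCore p G).Normal := pCore_normal p G
  have hQp : IsPGroup p ↥(Cfsg.pCore p G) := pCore_isPGroup p G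
  have hQP : Cfsg.pCore p G ≤ (P : Subgroup G) := pCore_le_sylow P
  obtain ⟨K, hKn, hCK, ⟨n₁, hn₁⟩, hquad⟩ := hst _ hQn hQp
  have hKp : IsPGroup p ↥K := by
    obtain ⟨m, hm⟩ := IsPGroup.iff_card.mp (hQp.to_le hc)
    apply IsPGroup.of_card (n := n₁ + m)
    rw [card_eq_relIndex_mul hCK, hn₁, hm, pow_add]
  have hKQ : K ≤ Cfsg.pCore p G := le_pCore hKn hKp
  have hIQ : sInf 𝒜 ≤ Cfsg.pCore p G := by
    intro z hz
    apply hKQ
    apply hquad
    intro b hb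
    have h1 : ⁅b, z⁆ ∈ sInf 𝒜 := by
      rw [commutatorElement_def]
      exact Subgroup.mul_mem _ (hPI b (hQP hb) z hz) (Subgroup.inv_mem _ hz)
    exact commutatorElement_eq_one_iff_mul_comm.mpr (hIc _ h1 z hz)
  have h := inter_normal P (sInf 𝒜) hIc hPI hkey _ hQn hQp
  rwa [inf_eq_left.mpr hIQ] at h

end Cfsg.Agent.Lib.helper7.AxZJ
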