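import Mathlib
import Cfsg.Agent.Lib.helper7.AxZJ1

set_option autoImplicit false

/-! The axiomatic Glauberman–Thompson criterion: the constrained group case. -/

namespace Cfsg.Agent.Lib.helper7.AxZJ

open Cfsg
open scoped commutatorElement

universe u

/-- In a finite group with `C_G(O_p(G)) ≤ O_p(G)`, `p` odd, if the normalizer of the intersection
of a family of abelian subgroups of a Sylow `p`-subgroup `P` satisfying invariance and replacement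
lies in `P`, then `G = P`. -/
theorem gt_ax {G : Type u} [Group G] [Finite G] {p : ℕ} [Fact p.Prime] (hp : p ≠ 2)
    (P : Sylow p G) (𝒜 : Set (Subgroup G)) (hne : 𝒜.Nonempty)
    (h𝒜 : ∀ A ∈ 𝒜, A ≤ (P : Subgroup G) ∧ ∀ a ∈ A, ∀ b ∈ A, a * b = b * a)
    (hinv : ∀ Q : Subgroup G, Q ≤ (P : Subgroup G) → (∃ A ∈ 𝒜, A ≤ Q) →
      ∀ g ∈ Subgroup.normalizer (Q : Set G), ∀ x ∈ sInf {A | A ∈ 𝒜 ∧ A ≤ Q},
        g * x * g⁻¹ ∈ sInf {A | A ∈ 𝒜 ∧ A ≤ Q})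
    (hrep : ∀ B : Subgroup G, B ≤ (P : Subgroup G) → ⁅⁅B, B⁆, B⁆ = ⊥ →
      (∃ A ∈ 𝒜, ⁅B, B⁆ ≤ A ∧ ¬ B ≤ A) →
      ∃ A ∈ 𝒜, ⁅B, B⁆ ≤ A ∧ ¬ B ≤ A ∧ B ≤ Subgroup.normalizer (A : Set G))
    (hc : Subgroup.centralizer (Cfsg.pCore p G : Set G) ≤ Cfsg.pCore p G)
    (hN : Subgroup.normalizer ((sInf 𝒜 : Subgroup G) : Set G) ≤ (P : Subgroup G)) :
    (P : Subgroup G) = ⊤ := by
  classical
  have hpp : p.Prime := Fact.out
  by_contra hne'
  obtain ⟨M, ⟨hPM, hMP⟩, hmin⟩ := Set.exists_min_image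
    {M : Subgroup G | (P : Subgroup G) ≤ M ∧ M ≠ (P : Subgroup G)} (fun M => Nat.card M)
    (Set.toFinite _) ⟨⊤, le_top, fun h => hne' h.symm⟩
  have hminP : ∀ M' : Subgroup G, (P : Subgroup G) ≤ M' → M' ≤ M →
      M' = (P : Subgroup G) ∨ M' = M := by
    intro M' h1 h2
    by_cases h3 : M' = (P : Subgroup G)
    · exact Or.inl h3
    · exact Or.inr (Subgroup.eq_of_le_of_card_ge h2 (hmin M' ⟨h1, h3⟩))
  obtain ⟨P', hP'def⟩ : ∃ P' : Sylow p ↥M, P' = P.subtype hPM := ⟨_, rfl⟩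
  have hP' : ∀ y : ↥M, y ∈ (P' : Subgroup ↥M) ↔ (y : G) ∈ (P : Subgroup G) := by
    intro y
    rw [hP'def, Sylow.coe_subtype, Subgroup.mem_subgroupOf]
  have hmaxP : ∀ M' : Subgroup ↥M, (P' : Subgroup ↥M) ≤ M' →
      M' = (P' : Subgroup ↥M) ∨ M' = ⊤ := by
    intro M' h
    have h1 : (P : Subgroup G) ≤ M'.map M.subtype := by
      intro x hx
      exact ⟨⟨x, hPM hx⟩, h ((hP' _).2 hx), rfl⟩
    have h2 : M'.map M.subtype ≤ M := by
      rintro _ ⟨y, -, rfl⟩; exact y.2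
    rcases hminP _ h1 h2 with h3 | h3
    · left
      apply le_antisymm _ h
      intro y hy
      rw [hP', ← h3]
      exact ⟨y, hy, rfl⟩
    · right
      rw [eq_top_iff]
      intro y _
      have hy : (y : G) ∈ M'.map M.subtype := by rw [h3]; exact y.2
      obtain ⟨z, hz, hzy⟩ := hy
      have e : z = y := Subtype.ext hzy
      rw [← e]; exact hz
  have hmax : ∀ (Q : Sylow p ↥M) (M' : Subgroup ↥M), (Q : Subgroup ↥M) ≤ M' →
      M' = (Q : Subgroup ↥M) ∨ M' = ⊤ := by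
    intro Q M' h
    obtain ⟨g, hg⟩ := MulAction.exists_smul_eq ↥M P' Q
    have hQ : ∀ y : ↥M, y ∈ (Q : Subgroup ↥M) ↔ g⁻¹ * y * g ∈ (P' : Subgroup ↥M) := by
      intro y
      rw [← hg]
      exact Cfsg.Agent.Lib.lead.mem_smul_sylow g y P'
    have h1 : (P' : Subgroup ↥M) ≤ M'.comap (MulAut.conj g).toMonoidHom := by
      intro x hx
      rw [Subgroup.mem_comap]
      apply h
      rw [hQ]
      have e : g⁻¹ * ((MulAut.conj g).toMonoidHom x) * g = x := by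
        show g⁻¹ * (g * x * g⁻¹) * g = x
        group
      rw [e]; exact hx
    rcases hmaxP _ h1 with h3 | h3
    · left
      apply le_antisymm _ h
      intro y hy
      rw [hQ, ← h3, Subgroup.mem_comap]
      have e : (MulAut.conj g).toMonoidHom (g⁻¹ * y * g) = y := by
        show g * (g⁻¹ * y * g) * g⁻¹ = y
        group
      rw [e]; exact hy
    · right
      rw [eq_top_iff]
      intro y _
      have h4 : g⁻¹ * y * g ∈ M'.comap (MulAut.conj g).toMonoidHom := by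
        rw [h3]; exact Subgroup.mem_top _
      rw [Subgroup.mem_comap] at h4
      have e : (MulAut.conj g).toMonoidHom (g⁻¹ * y * g) = y := by
        show g * (g⁻¹ * y * g) * g⁻¹ = y
        group
      rw [e] at h4; exact h4
  haveI hHn : (Cfsg.pCore p ↥M).Normal := Cfsg.Agent.Lib.helper26.pCore_normal p ↥M
  have hOG : Cfsg.pCore p G ≤ (P : Subgroup G) := Cfsg.Agent.Lib.helper26.pCore_le_sylow P
  have hOM : (Cfsg.pCore p G).subgroupOf M ≤ Cfsg.pCore p ↥M := by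
    apply Cfsg.Agent.Lib.helper26.le_pCore
    · haveI := Cfsg.Agent.Lib.helper26.pCore_normal p G
      infer_instance
    · exact (Cfsg.Agent.Lib.helper15.pCore_isPGroup p G).comap_subtype
  have hcM : Subgroup.centralizer (Cfsg.pCore p ↥M : Set ↥M) ≤ Cfsg.pCore p ↥M := by
    intro c hc'
    apply hOM
    rw [Subgroup.mem_subgroupOf]
    apply hc
    rw [Subgroup.mem_centralizer_iff]
    intro o ho
    have hoM : o ∈ M := hPM (hOG ho)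
    have h1 := Subgroup.mem_centralizer_iff.1 hc' ⟨o, hoM⟩
      (hOM (Subgroup.mem_subgroupOf.2 ho))
    exact congrArg Subtype.val h1
  have hHp : IsPGroup p ↥(Cfsg.pCore p ↥M) := Cfsg.Agent.Lib.helper15.pCore_isPGroup p ↥M
  have hsurj := QuotientGroup.mk'_surjective (Cfsg.pCore p ↥M)
  obtain ⟨Pb, hPbdef⟩ : ∃ Pb : Sylow p (↥M ⧸ Cfsg.pCore p ↥M),
      Pb = P'.mapSurjective hsurj := ⟨_, rfl⟩
  have hPb : (Pb : Subgroup (↥M ⧸ Cfsg.pCore p ↥M)) =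
      (P' : Subgroup ↥M).map (QuotientGroup.mk' (Cfsg.pCore p ↥M)) := by
    rw [hPbdef, Sylow.coe_mapSurjective]
  have hq : Cfsg.HasNormalPComplement p (↥M ⧸ Cfsg.pCore p ↥M) := by
    apply Cfsg.Agent.S0659.result hp Pb
    obtain ⟨Nb, hNb⟩ : ∃ Nb : Subgroup (↥M ⧸ Cfsg.pCore p ↥M),
        Nb = Subgroup.normalizer (Cfsg.centerThompsonAOf
          (Pb : Subgroup (↥M ⧸ Cfsg.pCore p ↥M)) : Set (↥M ⧸ Cfsg.pCore p ↥M)) := ⟨_, rfl⟩
    rw [← hNb]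
    have hPbN : (Pb : Subgroup (↥M ⧸ Cfsg.pCore p ↥M)) ≤ Nb := by
      rw [hNb]
      intro x hx
      exact Cfsg.Agent.Lib.helper7.ZJInn.zj_normalizer _ x (Subgroup.le_normalizer hx)
    have h1 : (P' : Subgroup ↥M) ≤ Nb.comap (QuotientGroup.mk' (Cfsg.pCore p ↥M)) := by
      intro x hx
      rw [Subgroup.mem_comap]
      apply hPbN
      rw [hPb]
      exact ⟨x, hx, rfl⟩
    have hNbmap : (Nb.comap (QuotientGroup.mk' (Cfsg.pCore p ↥M))).map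
        (QuotientGroup.mk' (Cfsg.pCore p ↥M)) = Nb :=
      Subgroup.map_comap_eq_self_of_surjective hsurj Nb
    rcases hmax P' _ h1 with h3 | h3
    · have hNbP : Nb = (Pb : Subgroup (↥M ⧸ Cfsg.pCore p ↥M)) := by
        rw [← hNbmap, h3, hPb]
      rw [hNbP]
      exact Cfsg.Agent.Lib.helper14.hasNPC_of_isPGroup Pb.isPGroup'
    · have hNbtop : Nb = ⊤ := by
        rw [← hNbmap, h3, Subgroup.map_top_of_surjective _ hsurj]
      have hZn : (Cfsg.centerThompsonAOf (Pb : Subgroup (↥M ⧸ Cfsg.pCore p ↥M))).Normal :=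
        Subgroup.normalizer_eq_top_iff.mp (by rw [← hNb]; exact hNbtop)
      have hZle : Cfsg.centerThompsonAOf (Pb : Subgroup (↥M ⧸ Cfsg.pCore p ↥M)) ≤
          (Pb : Subgroup (↥M ⧸ Cfsg.pCore p ↥M)) := Cfsg.Agent.S0659.zjA_le _
      have hRp : IsPGroup p ↥((Cfsg.centerThompsonAOf
          (Pb : Subgroup (↥M ⧸ Cfsg.pCore p ↥M))).comap
          (QuotientGroup.mk' (Cfsg.pCore p ↥M))) := by
        apply IsPGroup.comap_of_ker_isPGroup (Pb.isPGroup'.to_le hZle)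
        rw [QuotientGroup.ker_mk']; exact hHp
      have hRle := Cfsg.Agent.Lib.helper26.le_pCore
        (hZn.comap (QuotientGroup.mk' (Cfsg.pCore p ↥M))) hRp
      have hZbot : Cfsg.centerThompsonAOf (Pb : Subgroup (↥M ⧸ Cfsg.pCore p ↥M)) = ⊥ := by
        rw [eq_bot_iff]
        intro z hz
        obtain ⟨y, rfl⟩ := hsurj z
        have hy : y ∈ Cfsg.pCore p ↥M := hRle (Subgroup.mem_comap.2 hz)
        rw [Subgroup.mem_bot]
        exact (QuotientGroup.eq_one_iff y).2 hy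
      have hPbbot : (Pb : Subgroup (↥M ⧸ Cfsg.pCore p ↥M)) = ⊥ := by
        by_contra hPb1
        exact Cfsg.Agent.S0659.zjA_ne_bot _ Pb.isPGroup' hPb1 hZbot
      apply Cfsg.Agent.Lib.helper14.hasNPC_of_coprime
      have h5 := Pb.not_dvd_index
      rw [hPbbot, Subgroup.index_bot] at h5
      rw [hNbtop, Subgroup.card_top]
      exact ((Nat.Prime.coprime_iff_not_dvd hpp).2 h5).symm
  rw [Cfsg.Agent.S0072.hasNormalPComplement_iff] at hq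
  obtain ⟨Kb, hKn, hKc, j, hKi⟩ := hq
  have hmaxb := Cfsg.Agent.S0659.sylow_max_quot hmax
  have hKab := Cfsg.Agent.S0659.kb_comm hmaxb Kb hKn hKc j hKi
  have hst : ∀ (V : Subgroup ↥M) [V.Normal], IsPGroup p V → Cfsg.IsPStableOn p V :=
    fun V _ hV => Cfsg.Agent.S0659.pstable hp hmax Kb hKn hKc j hKi hKab V hV
  have hst' := Cfsg.Agent.Lib.helper15.zstab_of_pStableOn hst
  obtain ⟨𝒜M, h𝒜M⟩ : ∃ 𝒜M : Set (Subgroup ↥M),
      𝒜M = {A' | ∃ A ∈ 𝒜, A' = A.subgroupOf M} := ⟨_, rfl⟩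
  have hmemM : ∀ A' : Subgroup ↥M, A' ∈ 𝒜M ↔ ∃ A ∈ 𝒜, A' = A.subgroupOf M := by
    intro A'; rw [h𝒜M]; rfl
  have hneM : 𝒜M.Nonempty := by
    obtain ⟨A₀, hA₀⟩ := hne
    exact ⟨A₀.subgroupOf M, (hmemM _).2 ⟨A₀, hA₀, rfl⟩⟩
  have h𝒜M' : ∀ A' ∈ 𝒜M, A' ≤ (P' : Subgroup ↥M) ∧ ∀ a ∈ A', ∀ b ∈ A', a * b = b * a := by
    intro A' hA'
    obtain ⟨A, hA, rfl⟩ := (hmemM A').1 hA'
    refine ⟨fun y hy => (hP' y).2 ((h𝒜 A hA).1 (Subgroup.mem_subgroupOf.1 hy)),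
      fun a ha b hb => ?_⟩
    exact Subtype.ext ((h𝒜 A hA).2 _ (Subgroup.mem_subgroupOf.1 ha) _
      (Subgroup.mem_subgroupOf.1 hb))
  have hleM : ∀ A ∈ 𝒜, ∀ Q' : Subgroup ↥M, A.subgroupOf M ≤ Q' ↔ A ≤ Q'.map M.subtype := by
    intro A hA Q'
    constructor
    · intro h a ha
      exact ⟨⟨a, hPM ((h𝒜 A hA).1 ha)⟩, h (Subgroup.mem_subgroupOf.2 ha), rfl⟩
    · intro h y hy
      obtain ⟨z, hz, hzy⟩ := h (Subgroup.mem_subgroupOf.1 hy)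
      have e : z = y := Subtype.ext hzy
      rw [← e]; exact hz
  have hinvM : ∀ Q' : Subgroup ↥M, Q' ≤ (P' : Subgroup ↥M) → (∃ A' ∈ 𝒜M, A' ≤ Q') →
      ∀ g ∈ Subgroup.normalizer (Q' : Set ↥M), ∀ x ∈ sInf {A' | A' ∈ 𝒜M ∧ A' ≤ Q'},
        g * x * g⁻¹ ∈ sInf {A' | A' ∈ 𝒜M ∧ A' ≤ Q'} := by
    intro Q' hQ'P hex g hg x hx
    obtain ⟨A₁', hA₁', hA₁Q⟩ := hex
    obtain ⟨A₁, hA₁, rfl⟩ := (hmemM A₁').1 hA₁'
    have hQP : Q'.map M.subtype ≤ (P : Subgroup G) := by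
      rintro _ ⟨y, hy, rfl⟩; exact (hP' y).1 (hQ'P hy)
    have hgN : (g : G) ∈ Subgroup.normalizer ((Q'.map M.subtype : Subgroup G) : Set G) := by
      apply Cfsg.Agent.Lib.helper7.Model.mem_normalizer_of_conj_le (Q'.map M.subtype) (g : G)
      rintro _ ⟨y, hy, rfl⟩
      exact ⟨g * y * g⁻¹, (Subgroup.mem_normalizer_iff.1 hg y).1 hy, rfl⟩
    have hxG : (x : G) ∈ sInf {A | A ∈ 𝒜 ∧ A ≤ Q'.map M.subtype} := by
      rw [Subgroup.mem_sInf]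
      intro A hA
      have h1 : A.subgroupOf M ∈ {A' | A' ∈ 𝒜M ∧ A' ≤ Q'} :=
        ⟨(hmemM _).2 ⟨A, hA.1, rfl⟩, (hleM A hA.1 Q').2 hA.2⟩
      exact Subgroup.mem_subgroupOf.1 ((Subgroup.mem_sInf.1 hx) _ h1)
    have h2 := hinv _ hQP ⟨A₁, hA₁, (hleM A₁ hA₁ Q').1 hA₁Q⟩ (g : G) hgN (x : G) hxG
    rw [Subgroup.mem_sInf]
    intro A' hA'
    obtain ⟨A, hA, rfl⟩ := (hmemM A').1 hA'.1
    rw [Subgroup.mem_subgroupOf]
    exact (Subgroup.mem_sInf.1 h2) A ⟨hA, (hleM A hA Q').1 hA'.2⟩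
  have hrepM : ∀ B' : Subgroup ↥M, B' ≤ (P' : Subgroup ↥M) → ⁅⁅B', B'⁆, B'⁆ = ⊥ →
      (∃ A' ∈ 𝒜M, ⁅B', B'⁆ ≤ A' ∧ ¬ B' ≤ A') →
      ∃ A' ∈ 𝒜M, ⁅B', B'⁆ ≤ A' ∧ ¬ B' ≤ A' ∧ B' ≤ Subgroup.normalizer (A' : Set ↥M) := by
    intro B' hB'P hB'2 hex
    obtain ⟨A₁', hA₁', h1, h2⟩ := hex
    obtain ⟨A₁, hA₁, rfl⟩ := (hmemM A₁').1 hA₁'
    have hBP : B'.map M.subtype ≤ (P : Subgroup G) := by
      rintro _ ⟨y, hy, rfl⟩; exact (hP' y).1 (hB'P hy)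
    have hcomm : ⁅B'.map M.subtype, B'.map M.subtype⁆ = (⁅B', B'⁆).map M.subtype :=
      (Subgroup.map_commutator B' B' M.subtype).symm
    have hB2 : ⁅⁅B'.map M.subtype, B'.map M.subtype⁆, B'.map M.subtype⁆ = ⊥ := by
      rw [hcomm, ← Subgroup.map_commutator, hB'2, Subgroup.map_bot]
    have hle2 : ∀ (A : Subgroup G) (X' : Subgroup ↥M),
        X'.map M.subtype ≤ A ↔ X' ≤ A.subgroupOf M := by
      intro A X'
      exact Subgroup.map_le_iff_le_comap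
    obtain ⟨A, hA, h3, h4, h5⟩ := hrep (B'.map M.subtype) hBP hB2
      ⟨A₁, hA₁, by rw [hcomm]; exact (hle2 A₁ _).2 h1, fun h => h2 ((hle2 A₁ _).1 h)⟩
    refine ⟨A.subgroupOf M, (hmemM _).2 ⟨A, hA, rfl⟩, ?_, ?_, ?_⟩
    · rw [hcomm] at h3; exact (hle2 A _).1 h3
    · exact fun h => h4 ((hle2 A _).2 h)
    · intro b hb
      have hbN : (b : G) ∈ Subgroup.normalizer (A : Set G) := h5 ⟨b, hb, rfl⟩
      rw [Subgroup.mem_normalizer_iff]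
      intro y
      rw [Subgroup.mem_subgroupOf, Subgroup.mem_subgroupOf]
      exact Subgroup.mem_normalizer_iff.1 hbN (y : G)
  have hn := ax_normal P' 𝒜M hneM h𝒜M' hinvM hrepM hst' hcM
  apply hMP
  apply le_antisymm _ hPM
  intro x hx
  apply hN
  apply Cfsg.Agent.Lib.helper7.Model.mem_normalizer_of_conj_le (sInf 𝒜) x
  intro z hz
  obtain ⟨A₀, hA₀⟩ := hne
  have hzM : z ∈ M := hPM ((h𝒜 A₀ hA₀).1 ((Subgroup.mem_sInf.1 hz) A₀ hA₀))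
  have hzI : (⟨z, hzM⟩ : ↥M) ∈ sInf 𝒜M := by
    rw [Subgroup.mem_sInf]
    intro A' hA'
    obtain ⟨A, hA, rfl⟩ := (hmemM A').1 hA'
    exact Subgroup.mem_subgroupOf.2 ((Subgroup.mem_sInf.1 hz) A hA)
  have h1 := hn.conj_mem _ hzI ⟨x, hx⟩
  rw [Subgroup.mem_sInf]
  intro A hA
  have h2 := (Subgroup.mem_sInf.1 h1) (A.subgroupOf M) ((hmemM _).2 ⟨A, hA, rfl⟩)
  exact Subgroup.mem_subgroupOf.1 h2

end Cfsg.Agent.Lib.helper7.AxZJ
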