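import Mathlib
import Cfsg.Agent.Lib.helper7.AxZJ2
import Cfsg.Agent.S5221
import Cfsg.Agent.S5281
import Cfsg.Agent.Lib.helper7.ModelC

set_option autoImplicit false

/-! The axiomatic Glauberman–Thompson criterion for fusion systems (`p` odd): the constrained case
(via the model) and the reduction to it by sparseness of a minimal counterexample. -/

namespace Cfsg.Agent.Lib.helper7.AxZJ

open Cfsg Cfsg.FusionSystem Cfsg.Agent.Lib.helper25 Cfsg.Agent.Lib.helper7.ZJInn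
open scoped commutatorElement

universe u

variable {Ω : Type u} [Group Ω] {S : Subgroup Ω}

/-- `S` normalizes the intersection of the family -/
theorem le_normalizerIn_sInf [Finite S] (F : FusionSystem S) (𝒜 : Set (Subgroup Ω))
    (hne : 𝒜.Nonempty) (h𝒜 : ∀ A ∈ 𝒜, A ≤ S)
    (hinv : ∀ Q : Subgroup Ω, Q ≤ S → (∃ A ∈ 𝒜, A ≤ Q) → ∀ α ∈ F.autGroup Q, ∀ x : ↥Q,
      (x : Ω) ∈ sInf {A : Subgroup Ω | A ∈ 𝒜 ∧ A ≤ Q} →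
      (((α : MulAut ↥Q) x : ↥Q) : Ω) ∈ sInf {A : Subgroup Ω | A ∈ 𝒜 ∧ A ≤ Q}) :
    S ≤ normalizerIn S (sInf 𝒜) := by
  obtain ⟨A₀, hA₀⟩ := hne
  have hIS : sInf 𝒜 ≤ S := (sInf_le hA₀).trans (h𝒜 A₀ hA₀)
  haveI : Finite ↥(sInf 𝒜) := Cfsg.Agent.Lib.helper26.finite_of_le hIS
  have hset : {A : Subgroup Ω | A ∈ 𝒜 ∧ A ≤ S} = 𝒜 := by
    ext A; exact ⟨fun h => h.1, fun h => ⟨h, h𝒜 A h⟩⟩
  intro s hs
  refine ⟨hs, Cfsg.Agent.Lib.helper7.Model.mem_normalizer_of_conj_le (sInf 𝒜) s ?_⟩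
  intro y hy
  have hsN : s ∈ normalizerIn S S := ⟨hs, Subgroup.le_normalizer hs⟩
  have hα : Cfsg.Agent.Lib.helper26.conjAut S S ⟨s, hsN⟩ ∈ F.autGroup S :=
    Cfsg.Agent.Lib.helper26.autInducedBy_le_autGroup F le_rfl
      (Cfsg.Agent.Lib.helper26.conjAut_mem_autInducedBy S S ⟨s, hsN⟩)
  have h := hinv S le_rfl ⟨A₀, hA₀, h𝒜 A₀ hA₀⟩ _ hα ⟨y, hIS hy⟩
  rw [hset] at h
  exact h hy

/-- the constrained case: a system with a model -/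
theorem inn_of_model_ax [Finite S] {p : ℕ} [Fact p.Prime] (hp : p ≠ 2)
    (F : FusionSystem S) (𝒜 : Set (Subgroup Ω)) (hne : 𝒜.Nonempty)
    (h𝒜 : ∀ A ∈ 𝒜, A ≤ S ∧ ∀ a ∈ A, ∀ b ∈ A, a * b = b * a)
    (hinv : ∀ Q : Subgroup Ω, Q ≤ S → (∃ A ∈ 𝒜, A ≤ Q) → ∀ α ∈ F.autGroup Q, ∀ x : ↥Q,
      (x : Ω) ∈ sInf {A : Subgroup Ω | A ∈ 𝒜 ∧ A ≤ Q} →
      (((α : MulAut ↥Q) x : ↥Q) : Ω) ∈ sInf {A : Subgroup Ω | A ∈ 𝒜 ∧ A ≤ Q})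
    (hrep : ∀ B : Subgroup Ω, B ≤ S → ⁅⁅B, B⁆, B⁆ = ⊥ → (∃ A ∈ 𝒜, ⁅B, B⁆ ≤ A ∧ ¬ B ≤ A) →
      ∃ A ∈ 𝒜, ⁅B, B⁆ ≤ A ∧ ¬ B ≤ A ∧ B ≤ Subgroup.normalizer (A : Set Ω))
    (hI : ZJInn.NInn F (sInf 𝒜))
    (G : Type u) [Group G] (ι : S →* G) (hG : F.IsModel p G ι) : ZJInn.Inn F := by
  classical
  obtain ⟨hGfin, ⟨hιinj, hreal⟩, ⟨TG, hTG⟩, hGcen⟩ := hG
  haveI := hGfin
  have hr : F.IsRealizedBy ι := ⟨hιinj, hreal⟩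
  have hO : pCore p G ≤ ι.range := hTG ▸ Cfsg.Agent.Lib.helper26.pCore_le_sylow TG
  have hOn : (pCore p G).Normal := Cfsg.Agent.Lib.helper26.pCore_normal p G
  obtain ⟨A₀, hA₀⟩ := hne
  have hIS : sInf 𝒜 ≤ S := (sInf_le hA₀).trans (h𝒜 A₀ hA₀).1
  haveI : Finite ↥(sInf 𝒜) := Cfsg.Agent.Lib.helper26.finite_of_le hIS
  have hset : {A : Subgroup Ω | A ∈ 𝒜 ∧ A ≤ S} = 𝒜 := by
    ext A; exact ⟨fun h => h.1, fun h => ⟨h, (h𝒜 A h).1⟩⟩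
  have hSN : S ≤ normalizerIn S (sInf 𝒜) := by
    intro s hs
    refine ⟨hs, Cfsg.Agent.Lib.helper7.Model.mem_normalizer_of_conj_le (sInf 𝒜) s ?_⟩
    intro y hy
    have hsN : s ∈ normalizerIn S S := ⟨hs, Subgroup.le_normalizer hs⟩
    have hα : Cfsg.Agent.Lib.helper26.conjAut S S ⟨s, hsN⟩ ∈ F.autGroup S :=
      Cfsg.Agent.Lib.helper26.autInducedBy_le_autGroup F le_rfl
        (Cfsg.Agent.Lib.helper26.conjAut_mem_autInducedBy S S ⟨s, hsN⟩)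
    have h := hinv S le_rfl ⟨A₀, hA₀, (h𝒜 A₀ hA₀).1⟩ _ hα ⟨y, hIS hy⟩
    rw [hset] at h
    exact h hy
  have hkey : ∀ g : G,
      (∀ (X : Subgroup Ω) (hXS : X ≤ S) (β : X →* Ω), β ∈ F.Hom X →
        (∀ x : X, ∃ h : β x ∈ S, ι ⟨β x, h⟩ = g * ι ⟨x, hXS x.2⟩ * g⁻¹) →
        (∀ (x : Ω) (hx : x ∈ S), g * ι ⟨x, hx⟩ * g⁻¹ ∈ ι.range → x ∈ X) →
        ∃ s ∈ S, ∀ x : X, β x = s * x * s⁻¹) → g ∈ ι.range := by
    intro g H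
    obtain ⟨X, hX⟩ : ∃ X : Subgroup Ω, X =
        ((ι.range.comap (MulAut.conj g).toMonoidHom).comap ι).map S.subtype := ⟨_, rfl⟩
    have hXmem : ∀ x : Ω, x ∈ X ↔ ∃ hx : x ∈ S, g * ι ⟨x, hx⟩ * g⁻¹ ∈ ι.range := by
      intro x
      rw [hX]
      constructor
      · rintro ⟨t, ht, rfl⟩
        exact ⟨t.2, ht⟩
      · rintro ⟨hx, h⟩
        exact ⟨⟨x, hx⟩, h, rfl⟩
    have hXT : X ≤ S := fun x hx => ((hXmem x).1 hx).1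
    have hgr : ∀ x : X, g * ι ⟨x, hXT x.2⟩ * g⁻¹ ∈ ι.range := fun x => ((hXmem x).1 x.2).2
    have hβF : realHom ι hιinj hXT g hgr ∈ F.Hom X := realHom_mem F ι hr hXT g hgr
    obtain ⟨s, hsS, hsx⟩ := H X hXT (realHom ι hιinj hXT g hgr) hβF
      (fun x => ⟨realHom_mem_S ι hιinj hXT g hgr x, map_realHom ι hιinj hXT g hgr x⟩)
      (fun x hx h => (hXmem x).2 ⟨hx, h⟩)
    have hz : (ι ⟨s, hsS⟩)⁻¹ * g ∈
        Subgroup.centralizer ((pCore p G : Subgroup G) : Set G) := by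
      rw [Subgroup.mem_centralizer_iff]
      intro y hy
      obtain ⟨t, rfl⟩ := hO hy
      have hconj : g * ι t * g⁻¹ ∈ ι.range := hO (hOn.conj_mem _ hy g)
      have htX : (t : Ω) ∈ X := (hXmem t).2 ⟨t.2, hconj⟩
      have h3 : ι ⟨realHom ι hιinj hXT g hgr ⟨t, htX⟩,
          realHom_mem_S ι hιinj hXT g hgr _⟩ = g * ι t * g⁻¹ :=
        map_realHom ι hιinj hXT g hgr ⟨t, htX⟩
      have h6 : realHom ι hιinj hXT g hgr ⟨t, htX⟩ = s * t * s⁻¹ := hsx ⟨t, htX⟩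
      have h8 : (⟨s, hsS⟩ * t * ⟨s, hsS⟩⁻¹ : ↥S) =
          ⟨realHom ι hιinj hXT g hgr ⟨t, htX⟩, realHom_mem_S ι hιinj hXT g hgr _⟩ :=
        Subtype.ext h6.symm
      have h7 : ι ⟨s, hsS⟩ * ι t * (ι ⟨s, hsS⟩)⁻¹ = g * ι t * g⁻¹ := by
        rw [← h3, ← h8, map_mul, map_mul, map_inv]
      calc ι t * ((ι ⟨s, hsS⟩)⁻¹ * g)
          = (ι ⟨s, hsS⟩)⁻¹ * (ι ⟨s, hsS⟩ * ι t * (ι ⟨s, hsS⟩)⁻¹) * g := by group
        _ = (ι ⟨s, hsS⟩)⁻¹ * (g * ι t * g⁻¹) * g := by rw [h7]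
        _ = (ι ⟨s, hsS⟩)⁻¹ * g * ι t := by group
    obtain ⟨w, hw⟩ := hO (hGcen hz)
    refine ⟨⟨s, hsS⟩ * w, ?_⟩
    rw [map_mul, hw]; group
  -- the family in `G`
  obtain ⟨𝒜G, h𝒜G⟩ : ∃ 𝒜G : Set (Subgroup G),
      𝒜G = {A' | ∃ A ∈ 𝒜, A' = Cfsg.Agent.Lib.helper7.Model.img ι A} := ⟨_, rfl⟩
  have hcorr1 : ∀ (𝒞 : Set (Subgroup Ω)), 𝒞.Nonempty →
      ∀ x ∈ sInf {A' : Subgroup G | ∃ A ∈ 𝒞, A' = Cfsg.Agent.Lib.helper7.Model.img ι A},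
        ∃ s : S, (s : Ω) ∈ sInf 𝒞 ∧ ι s = x := by
    rintro 𝒞 ⟨C₀, hC₀⟩ x hx
    have hx' : ∀ A ∈ 𝒞, x ∈ Cfsg.Agent.Lib.helper7.Model.img ι A := fun A hA =>
      (Subgroup.mem_sInf.1 hx) _ ⟨A, hA, rfl⟩
    obtain ⟨s, hs, rfl⟩ := Cfsg.Agent.Lib.helper7.Model.mem_img.1 (hx' C₀ hC₀)
    refine ⟨s, Subgroup.mem_sInf.2 (fun A hA => ?_), rfl⟩
    obtain ⟨s', hs', h⟩ := Cfsg.Agent.Lib.helper7.Model.mem_img.1 (hx' A hA)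
    rw [← hιinj h]; exact hs'
  have hcorr2 : ∀ (𝒞 : Set (Subgroup Ω)) (s : S), (s : Ω) ∈ sInf 𝒞 →
      ι s ∈ sInf {A' : Subgroup G | ∃ A ∈ 𝒞, A' = Cfsg.Agent.Lib.helper7.Model.img ι A} := by
    intro 𝒞 s hs
    refine Subgroup.mem_sInf.2 ?_
    rintro _ ⟨A, hA, rfl⟩
    exact Cfsg.Agent.Lib.helper7.Model.mem_img.2 ⟨s, Subgroup.mem_sInf.1 hs A hA, rfl⟩
  have hNle : Subgroup.normalizer ((sInf 𝒜G : Subgroup G) : Set G) ≤ (TG : Subgroup G) := by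
    rw [hTG]
    intro g hg
    apply hkey g
    intro X hXT β hβ hβι hXfull
    have hUι : ∀ (u : Ω) (hu : u ∈ sInf 𝒜),
        ∃ (u' : Ω) (hu' : u' ∈ sInf 𝒜), ι ⟨u', hIS hu'⟩ = g * ι ⟨u, hIS hu⟩ * g⁻¹ := by
      intro u hu
      have h1 : ι ⟨u, hIS hu⟩ ∈ sInf 𝒜G := by rw [h𝒜G]; exact hcorr2 𝒜 ⟨u, hIS hu⟩ hu
      have h2 := (Subgroup.mem_normalizer_iff.1 hg _).1 h1
      rw [h𝒜G] at h2
      obtain ⟨s, hs, hs2⟩ := hcorr1 𝒜 ⟨A₀, hA₀⟩ _ h2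
      exact ⟨s, hs, hs2⟩
    have hUX : sInf 𝒜 ≤ X := by
      intro u hu
      obtain ⟨u', hu', h3⟩ := hUι u hu
      exact hXfull u (hIS hu) (by rw [← h3]; exact ⟨_, rfl⟩)
    apply hI X β hβ hUX (hXT.trans hSN)
    intro w hw
    obtain ⟨u', hu', h3⟩ := hUι w hw
    obtain ⟨h, hx⟩ := hβι ⟨w, hUX hw⟩
    have h4 : (⟨β ⟨w, hUX hw⟩, h⟩ : ↥S) = ⟨u', hIS hu'⟩ := hιinj (hx.trans h3.symm)
    have h5 : β ⟨w, hUX hw⟩ = u' := congrArg Subtype.val h4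
    rw [h5]; exact hu'
  have hfam : ∀ A' ∈ 𝒜G, A' ≤ (TG : Subgroup G) ∧ ∀ a ∈ A', ∀ b ∈ A', a * b = b * a := by
    intro A' hA'
    rw [h𝒜G] at hA'
    obtain ⟨A, hA, rfl⟩ := hA'
    constructor
    · intro x hx
      obtain ⟨s, -, rfl⟩ := Cfsg.Agent.Lib.helper7.Model.mem_img.1 hx
      rw [hTG]; exact ⟨s, rfl⟩
    · intro a ha b hb
      obtain ⟨s, hs, rfl⟩ := Cfsg.Agent.Lib.helper7.Model.mem_img.1 ha
      obtain ⟨t, ht, rfl⟩ := Cfsg.Agent.Lib.helper7.Model.mem_img.1 hb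
      rw [← map_mul, ← map_mul]
      congr 1
      exact Subtype.ext ((h𝒜 A hA).2 _ hs _ ht)
  have hinvG : ∀ Q' : Subgroup G, Q' ≤ (TG : Subgroup G) → (∃ A' ∈ 𝒜G, A' ≤ Q') →
      ∀ g ∈ Subgroup.normalizer (Q' : Set G), ∀ x ∈ sInf {A' | A' ∈ 𝒜G ∧ A' ≤ Q'},
        g * x * g⁻¹ ∈ sInf {A' | A' ∈ 𝒜G ∧ A' ≤ Q'} := by
    intro Q' hQ'T hex g hg x hx
    obtain ⟨Q, hQ⟩ : ∃ Q : Subgroup Ω, Q = (Q'.comap ι).map S.subtype := ⟨_, rfl⟩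
    have hQmem : ∀ y : Ω, y ∈ Q ↔ ∃ hy : y ∈ S, ι ⟨y, hy⟩ ∈ Q' := by
      intro y
      rw [hQ]
      constructor
      · rintro ⟨t, ht, rfl⟩
        exact ⟨t.2, ht⟩
      · rintro ⟨hy, h⟩
        exact ⟨⟨y, hy⟩, h, rfl⟩
    have hQS : Q ≤ S := fun y hy => ((hQmem y).1 hy).1
    have hle : ∀ A ∈ 𝒜, (Cfsg.Agent.Lib.helper7.Model.img ι A ≤ Q' ↔ A ≤ Q) := by
      intro A hA
      constructor
      · intro h y hy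
        exact (hQmem y).2 ⟨(h𝒜 A hA).1 hy,
          h (Cfsg.Agent.Lib.helper7.Model.mem_img.2 ⟨⟨y, (h𝒜 A hA).1 hy⟩, hy, rfl⟩)⟩
      · intro h y hy
        obtain ⟨s, hs, rfl⟩ := Cfsg.Agent.Lib.helper7.Model.mem_img.1 hy
        exact ((hQmem s).1 (h hs)).2
    have hsetG : {A' : Subgroup G | A' ∈ 𝒜G ∧ A' ≤ Q'} =
        {A' : Subgroup G | ∃ A ∈ {A : Subgroup Ω | A ∈ 𝒜 ∧ A ≤ Q},
          A' = Cfsg.Agent.Lib.helper7.Model.img ι A} := by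
      ext A'
      rw [h𝒜G]
      constructor
      · rintro ⟨⟨A, hA, rfl⟩, h2⟩
        exact ⟨A, ⟨hA, (hle A hA).1 h2⟩, rfl⟩
      · rintro ⟨A, ⟨hA, h2⟩, rfl⟩
        exact ⟨⟨A, hA, rfl⟩, (hle A hA).2 h2⟩
    rw [hsetG] at hx ⊢
    have hexQ : ∃ A ∈ 𝒜, A ≤ Q := by
      obtain ⟨A', hA', hA'Q⟩ := hex
      rw [h𝒜G] at hA'
      obtain ⟨A, hA, rfl⟩ := hA'
      exact ⟨A, hA, (hle A hA).1 hA'Q⟩
    obtain ⟨A₁, hA₁, hA₁Q⟩ := hexQ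
    obtain ⟨s, hs, rfl⟩ := hcorr1 {A : Subgroup Ω | A ∈ 𝒜 ∧ A ≤ Q} ⟨A₁, hA₁, hA₁Q⟩ x hx
    have hgr : ∀ y : Q, g * ι ⟨y, hQS y.2⟩ * g⁻¹ ∈ ι.range := by
      intro y
      have h1 := ((hQmem y).1 y.2).2
      have h2 := (Subgroup.mem_normalizer_iff.1 hg _).1 h1
      rw [← hTG]; exact hQ'T h2
    have hβF : realHom ι hιinj hQS g hgr ∈ F.Hom Q := realHom_mem F ι hr hQS g hgr
    have hinto : ∀ y : Q, realHom ι hιinj hQS g hgr y ∈ Q := by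
      intro y
      refine (hQmem _).2 ⟨realHom_mem_S ι hιinj hQS g hgr y, ?_⟩
      rw [map_realHom ι hιinj hQS g hgr y]
      exact (Subgroup.mem_normalizer_iff.1 hg _).1 ((hQmem y).1 y.2).2
    obtain ⟨α', hα', hα'x⟩ := Cfsg.Agent.S5281.aut_of_hom F hQS le_rfl hβF (fun y => hinto y)
    have hsQ : (s : Ω) ∈ Q := hA₁Q (Subgroup.mem_sInf.1 hs A₁ ⟨hA₁, hA₁Q⟩)
    have h3 := hinv Q hQS ⟨A₁, hA₁, hA₁Q⟩ α' hα' ⟨s, hsQ⟩ hs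
    have h3' : realHom ι hιinj hQS g hgr ⟨s, hsQ⟩ ∈ sInf {A : Subgroup Ω | A ∈ 𝒜 ∧ A ≤ Q} := by
      have e := hα'x ⟨s, hsQ⟩
      rw [e] at h3
      exact h3
    have h4 : ι ⟨realHom ι hιinj hQS g hgr ⟨s, hsQ⟩, realHom_mem_S ι hιinj hQS g hgr ⟨s, hsQ⟩⟩ ∈
        sInf {A' : Subgroup G | ∃ A ∈ {A : Subgroup Ω | A ∈ 𝒜 ∧ A ≤ Q},
          A' = Cfsg.Agent.Lib.helper7.Model.img ι A} := hcorr2 _ _ h3'
    rw [map_realHom ι hιinj hQS g hgr ⟨s, hsQ⟩] at h4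
    exact h4
  have hrepG : ∀ B' : Subgroup G, B' ≤ (TG : Subgroup G) → ⁅⁅B', B'⁆, B'⁆ = ⊥ →
      (∃ A' ∈ 𝒜G, ⁅B', B'⁆ ≤ A' ∧ ¬ B' ≤ A') →
      ∃ A' ∈ 𝒜G, ⁅B', B'⁆ ≤ A' ∧ ¬ B' ≤ A' ∧ B' ≤ Subgroup.normalizer (A' : Set G) := by
    intro B' hB'T hcl hex
    obtain ⟨BS, hBS⟩ : ∃ BS : Subgroup S, BS = B'.comap ι := ⟨_, rfl⟩
    have hB'eq : B' = BS.map ι := by
      rw [hBS, Subgroup.map_comap_eq_self]
      rw [← hTG]; exact hB'T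
    have himg : ∀ A ∈ 𝒜, Cfsg.Agent.Lib.helper7.Model.img ι A = (A.subgroupOf S).map ι :=
      fun A _ => rfl
    have hAeq : ∀ A ∈ 𝒜, (A.subgroupOf S).map S.subtype = A := fun A hA =>
      Subgroup.map_subgroupOf_eq_of_le (h𝒜 A hA).1
    have hc1 : ⁅B', B'⁆ = ⁅BS, BS⁆.map ι := by
      rw [Subgroup.map_commutator, ← hB'eq]
    have hc2 : ⁅BS.map S.subtype, BS.map S.subtype⁆ = ⁅BS, BS⁆.map S.subtype := by
      rw [Subgroup.map_commutator]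
    have hcl' : ⁅⁅BS.map S.subtype, BS.map S.subtype⁆, BS.map S.subtype⁆ = ⊥ := by
      rw [hc2, ← Subgroup.map_commutator]
      have h1 : ⁅⁅BS, BS⁆, BS⁆.map ι = ⊥ := by
        rw [Subgroup.map_commutator, ← hc1, ← hB'eq]; exact hcl
      rw [(Subgroup.map_eq_bot_iff_of_injective _ hιinj).1 h1, Subgroup.map_bot]
    have hiff1 : ∀ A ∈ 𝒜, (⁅B', B'⁆ ≤ Cfsg.Agent.Lib.helper7.Model.img ι A ↔
        ⁅BS.map S.subtype, BS.map S.subtype⁆ ≤ A) := by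
      intro A hA
      rw [hc1, hc2, himg A hA, Subgroup.map_le_map_iff_of_injective hιinj]
      conv_rhs => rw [← hAeq A hA]
      rw [Subgroup.map_le_map_iff_of_injective S.subtype_injective]
    have hiff2 : ∀ A ∈ 𝒜, (B' ≤ Cfsg.Agent.Lib.helper7.Model.img ι A ↔
        BS.map S.subtype ≤ A) := by
      intro A hA
      rw [himg A hA]
      conv_lhs => rw [hB'eq]
      rw [Subgroup.map_le_map_iff_of_injective hιinj]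
      conv_rhs => rw [← hAeq A hA]
      rw [Subgroup.map_le_map_iff_of_injective S.subtype_injective]
    have hBS_S : BS.map S.subtype ≤ S := by
      rintro _ ⟨t, -, rfl⟩; exact t.2
    obtain ⟨A', hA', h1, h2⟩ := hex
    rw [h𝒜G] at hA'
    obtain ⟨A, hA, rfl⟩ := hA'
    obtain ⟨A₂, hA₂, h3, h4, h5⟩ := hrep (BS.map S.subtype) hBS_S hcl'
      ⟨A, hA, (hiff1 A hA).1 h1, fun h => h2 ((hiff2 A hA).2 h)⟩
    refine ⟨Cfsg.Agent.Lib.helper7.Model.img ι A₂, by rw [h𝒜G]; exact ⟨A₂, hA₂, rfl⟩,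
      (hiff1 A₂ hA₂).2 h3, fun h => h4 ((hiff2 A₂ hA₂).1 h), ?_⟩
    intro b' hb'
    have hb'' : b' ∈ BS.map ι := by rw [← hB'eq]; exact hb'
    obtain ⟨b, hb, rfl⟩ := hb''
    apply Cfsg.Agent.Lib.helper7.Model.mem_normalizer_of_conj_le
    intro y hy
    obtain ⟨a, ha, rfl⟩ := Cfsg.Agent.Lib.helper7.Model.mem_img.1 hy
    have hbN : (b : Ω) ∈ Subgroup.normalizer (A₂ : Set Ω) := h5 ⟨b, hb, rfl⟩
    have hc : (b : Ω) * a * (b : Ω)⁻¹ ∈ A₂ := (Subgroup.mem_normalizer_iff.1 hbN _).1 ha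
    refine Cfsg.Agent.Lib.helper7.Model.mem_img.2 ⟨b * a * b⁻¹, hc, ?_⟩
    rw [map_mul, map_mul, map_inv]
  have htopT := gt_ax hp TG 𝒜G ⟨_, by rw [h𝒜G]; exact ⟨A₀, hA₀, rfl⟩⟩ hfam hinvG hrepG hGcen hNle
  have htop : ι.range = ⊤ := by rw [← hTG]; exact htopT
  intro X δ hδ
  have hXS : X ≤ S := (F.le_of_mem hδ).1
  have hval : ∀ x : X, δ x ∈ S := (F.le_of_mem hδ).2
  obtain ⟨g, hg⟩ := (hreal X hXS δ hval).1 hδ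
  have hgr : g ∈ ι.range := by rw [htop]; exact Subgroup.mem_top g
  obtain ⟨t, rfl⟩ := hgr
  refine ⟨t, t.2, fun x => ?_⟩
  have h1 := hg x
  have h2 : (⟨δ x, hval x⟩ : ↥S) = t * ⟨x, hXS x.2⟩ * t⁻¹ := by
    apply hιinj
    rw [map_mul, map_mul, map_inv]
    exact h1
  exact congrArg Subtype.val h2

/-- an encoding of a fusion system as a subset of a finite type -/
def enc (E : FusionSystem S) : Set (Set ↥S × (↥S → ↥S)) :=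
  {t | ∃ (Q : Subgroup Ω) (φ : Q →* Ω), φ ∈ E.Hom Q ∧ t.1 = {s : ↥S | (s : Ω) ∈ Q} ∧
    (∀ (x : Q) (hx : (x : Ω) ∈ S), ((t.2 ⟨x, hx⟩ : ↥S) : Ω) = φ x) ∧
    ∀ s : ↥S, (s : Ω) ∉ Q → t.2 s = 1}

theorem enc_mono {E E' : FusionSystem S} (h : ∀ P, E'.Hom P ⊆ E.Hom P) : enc E' ⊆ enc E := by
  rintro t ⟨Q, φ, hφ, h1, h2, h3⟩
  exact ⟨Q, φ, h Q hφ, h1, h2, h3⟩

theorem hom_sub_of_enc {E E' : FusionSystem S} (h : enc E ⊆ enc E') (Q : Subgroup Ω) :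
    E.Hom Q ⊆ E'.Hom Q := by
  classical
  intro φ hφ
  have hQS := (E.le_of_mem hφ).1
  have hφS := (E.le_of_mem hφ).2
  have ht : (({s : ↥S | (s : Ω) ∈ Q},
      fun s => if hs : (s : Ω) ∈ Q then ⟨φ ⟨s, hs⟩, hφS _⟩ else 1) :
        Set ↥S × (↥S → ↥S)) ∈ enc E := by
    refine ⟨Q, φ, hφ, rfl, ?_, ?_⟩
    · intro x hx
      show ((if hs : (x : Ω) ∈ Q then (⟨φ ⟨x, hs⟩, hφS _⟩ : ↥S) else 1 : ↥S) : Ω) = φ x
      rw [dif_pos x.2]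
    · intro s hs
      show (if hs : (s : Ω) ∈ Q then (⟨φ ⟨s, hs⟩, hφS _⟩ : ↥S) else 1) = 1
      rw [dif_neg hs]
  obtain ⟨Q', φ', hφ', h1, h2, h3⟩ := h ht
  have hQ'S := (E'.le_of_mem hφ').1
  have h1' : {s : ↥S | (s : Ω) ∈ Q} = {s : ↥S | (s : Ω) ∈ Q'} := h1
  have hQQ : Q' = Q := by
    ext y
    constructor
    · intro hy
      have h : (⟨y, hQ'S hy⟩ : ↥S) ∈ {s : ↥S | (s : Ω) ∈ Q'} := hy
      rw [← h1'] at h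
      exact h
    · intro hy
      have h : (⟨y, hQS hy⟩ : ↥S) ∈ {s : ↥S | (s : Ω) ∈ Q} := hy
      rw [h1'] at h
      exact h
  subst hQQ
  have hφφ : φ = φ' := by
    ext x
    have e : ((if hs : (x : Ω) ∈ Q' then (⟨φ ⟨x, hs⟩, hφS _⟩ : ↥S) else 1 : ↥S) : Ω) = φ' x :=
      h2 x (hQS x.2)
    rw [dif_pos x.2] at e
    exact e
  rw [hφφ]; exact hφ'

theorem enc_ncard_lt [Finite S] {E E' : FusionSystem S} (h : ∀ P, E'.Hom P ⊆ E.Hom P)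
    (hne : ¬ ∀ P, E'.Hom P = E.Hom P) : (enc E').ncard < (enc E).ncard := by
  apply Set.ncard_lt_ncard _ (Set.toFinite _)
  rw [Set.ssubset_def]
  exact ⟨enc_mono h, fun h2 => hne (fun P =>
    Set.Subset.antisymm (h P) (hom_sub_of_enc h2 P))⟩

/-- the axiomatic Glauberman–Thompson criterion, by induction on the size of the system -/
theorem inn_ax [Finite S] {p : ℕ} [Fact p.Prime] (hS : IsPGroup p ↥S) (hp : p ≠ 2)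
    (𝒜 : Set (Subgroup Ω)) (hne : 𝒜.Nonempty)
    (h𝒜 : ∀ A ∈ 𝒜, A ≤ S ∧ ∀ a ∈ A, ∀ b ∈ A, a * b = b * a)
    (hrep : ∀ B : Subgroup Ω, B ≤ S → ⁅⁅B, B⁆, B⁆ = ⊥ → (∃ A ∈ 𝒜, ⁅B, B⁆ ≤ A ∧ ¬ B ≤ A) →
      ∃ A ∈ 𝒜, ⁅B, B⁆ ≤ A ∧ ¬ B ≤ A ∧ B ≤ Subgroup.normalizer (A : Set Ω)) :
    ∀ (n : ℕ) (F : FusionSystem S), (enc F).ncard = n → F.IsSaturated p →
      (∀ Q : Subgroup Ω, Q ≤ S → (∃ A ∈ 𝒜, A ≤ Q) → ∀ α ∈ F.autGroup Q, ∀ x : ↥Q,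
        (x : Ω) ∈ sInf {A : Subgroup Ω | A ∈ 𝒜 ∧ A ≤ Q} →
        (((α : MulAut ↥Q) x : ↥Q) : Ω) ∈ sInf {A : Subgroup Ω | A ∈ 𝒜 ∧ A ≤ Q}) →
      ZJInn.NInn F (sInf 𝒜) → ZJInn.Inn F := by
  intro n
  induction n using Nat.strong_induction_on with
  | _ n ih =>
    intro F hn hF hinv hI
    by_contra hnot
    have hsparse : ∀ E : FusionSystem S, E.IsSaturated p → E.IsSubsystemOf F →
        (∀ P : Subgroup Ω, E.Hom P = F.Hom P) ∨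
        (∀ P : Subgroup Ω, E.Hom P = (innerFusionSystem S).Hom P) := by
      intro E hE hEF
      by_cases heq : ∀ P : Subgroup Ω, E.Hom P = F.Hom P
      · exact Or.inl heq
      · right
        have hlt : (enc E).ncard < n := hn ▸ enc_ncard_lt hEF heq
        have hinvE : ∀ Q : Subgroup Ω, Q ≤ S → (∃ A ∈ 𝒜, A ≤ Q) → ∀ α ∈ E.autGroup Q,
            ∀ x : ↥Q, (x : Ω) ∈ sInf {A : Subgroup Ω | A ∈ 𝒜 ∧ A ≤ Q} →
            (((α : MulAut ↥Q) x : ↥Q) : Ω) ∈ sInf {A : Subgroup Ω | A ∈ 𝒜 ∧ A ≤ Q} := by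
          intro Q hQ hex α hα x hx
          apply hinv Q hQ hex α _ x hx
          rw [Cfsg.Agent.Lib.helper26.mem_autGroup_iff F hQ]
          exact hEF Q ((Cfsg.Agent.Lib.helper26.mem_autGroup_iff E hQ α).1 hα)
        have hIE : ZJInn.NInn E (sInf 𝒜) := by
          intro X δ hδ hUX hXN hinto
          exact hI X δ (hEF X hδ) hUX hXN hinto
        have hEinn : ZJInn.Inn E := ih _ hlt E rfl hE hinvE hIE
        intro P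
        ext φ
        constructor
        · intro hφ
          obtain ⟨s, hs, hsx⟩ := hEinn P φ hφ
          exact ⟨(E.le_of_mem hφ).1, s, hs, hsx⟩
        · rintro ⟨hP, g, hg, hgx⟩
          exact hom_congr E (E.conj_mem hP hg) (fun x => hgx x)
    have hnotinner : ¬ ∀ P : Subgroup Ω, F.Hom P = (innerFusionSystem S).Hom P := by
      intro h
      apply hnot
      intro X δ hδ
      rw [h X] at hδ
      obtain ⟨_, s, hs, hsx⟩ := hδ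
      exact ⟨s, hs, hsx⟩
    obtain ⟨_, Q, hQn, hQc⟩ :=
      Cfsg.Agent.S5221.result p hS F hF ⟨hnotinner, hsparse⟩ (Or.inl hp)
    obtain ⟨G, _, ι, hG⟩ := Cfsg.Agent.Lib.helper7.Model.exists_model_of hS F hF Q hQn hQc
    exact hnot (inn_of_model_ax hp F 𝒜 hne h𝒜 hinv hrep hI G ι hG)

end Cfsg.Agent.Lib.helper7.AxZJ
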