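import Mathlib
import Cfsg.Agent.Lib.helper7.BisetTr

set_option autoImplicit false

/-! A "twisted transfer" through a right-free biset: given a homomorphism `π : H → Q` such that
every point stabilizer is, modulo the centre of `Q`, conjugation by an element of `Q`, we
construct a homomorphism `H → Z(Q)` measuring the failure of a section to be equivariant. -/

namespace Cfsg.Agent.Lib.helper7.Biset

open Cfsg.Agent.Lib.helper7.Yoshida
open scoped IsMulCommutative

section Coc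

variable {H : Type*} [Group H] {X : Type*} [MulAction (H × H) X] {Q : Type*} [Group Q]

/-- telescoping of central ratios along the orbits of one element -/
theorem prod_tel [Finite H] {Y : Type*} [MulAction H Y] [Fintype Y] (x : H) (tY : Y → Q)
    (hc : ∀ y, (tY y)⁻¹ * tY (x • y) ∈ Subgroup.center Q) :
    ∏ y : Y, (⟨(tY y)⁻¹ * tY (x • y), hc y⟩ : Subgroup.center Q) = 1 := by
  classical
  have hall : ∀ g ∈ Subgroup.zpowers x, ∀ y, (tY y)⁻¹ * tY (g • y) ∈ Subgroup.center Q := by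
    intro g hg
    rw [Subgroup.zpowers_eq_closure] at hg
    induction hg using Subgroup.closure_induction with
    | mem g hg =>
      rw [Set.mem_singleton_iff.mp hg]
      exact hc
    | one =>
      intro y
      rw [one_smul, inv_mul_cancel]
      exact Subgroup.one_mem _
    | mul a b _ _ iha ihb =>
      intro y
      have h1 : (tY y)⁻¹ * tY ((a * b) • y) =
          ((tY y)⁻¹ * tY (b • y)) * ((tY (b • y))⁻¹ * tY (a • b • y)) := by
        rw [mul_smul]
        group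
      rw [h1]
      exact Subgroup.mul_mem _ (ihb y) (iha (b • y))
    | inv a _ iha =>
      intro y
      have h1 : (tY y)⁻¹ * tY (a⁻¹ • y) = ((tY (a⁻¹ • y))⁻¹ * tY (a • a⁻¹ • y))⁻¹ := by
        rw [smul_inv_smul]
        group
      rw [h1]
      exact Subgroup.inv_mem _ (iha (a⁻¹ • y))
  let c : ↥(Subgroup.zpowers x) → Y → Subgroup.center Q :=
    fun g y => ⟨(tY y)⁻¹ * tY ((g : H) • y), hall g g.2 y⟩
  have hcoc : IsCoc c := by
    intro u u' y
    apply Subtype.ext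
    show (tY y)⁻¹ * tY (((u : H) * (u' : H)) • y) =
      (tY ((u' : H) • y))⁻¹ * tY ((u : H) • (u' : H) • y) * ((tY y)⁻¹ * tY ((u' : H) • y))
    have h1 := Subgroup.mem_center_iff.mp (hall u' u'.2 y)
      ((tY ((u' : H) • y))⁻¹ * tY ((u : H) • (u' : H) • y))
    rw [h1, mul_smul]
    group
  have h2 := pt_eval0 hcoc (⟨x, Subgroup.mem_zpowers x⟩ : ↥(Subgroup.zpowers x))
    (Finset.univ : Finset Y).card Finset.univ le_rfl (fun _ _ => Finset.mem_univ _)
    (fun ω _ n _ hfix => by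
      apply Subtype.ext
      show (tY ω)⁻¹ * tY ((((⟨x, Subgroup.mem_zpowers x⟩ : ↥(Subgroup.zpowers x)) ^ n :
        ↥(Subgroup.zpowers x)) : H) • ω) = 1
      have h3 : (((⟨x, Subgroup.mem_zpowers x⟩ : ↥(Subgroup.zpowers x)) ^ n :
        ↥(Subgroup.zpowers x)) : H) • ω = ω := hfix
      rw [h3, inv_mul_cancel])
  exact h2

/-- a bijection commuting with the right action induces a bijection of the right orbits -/
theorem exists_bb (β : X ≃ X)
    (hβ2 : ∀ (s : H) (ω : X), β (((1 : H), s) • ω) = ((1 : H), s) • β ω) :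
    ∃ bb : Yq H X ≃ Yq H X, ∀ ω : X, bb (qm ω) = qm (β ω) := by
  have hβ2' : ∀ (s : H) (ω : X), β.symm (((1 : H), s) • ω) = ((1 : H), s) • β.symm ω := by
    intro s ω
    apply β.injective
    rw [hβ2, β.apply_symm_apply, β.apply_symm_apply]
  let bb : Yq H X ≃ Yq H X :=
    { toFun := Quotient.map (sa := rsetoid H X) (sb := rsetoid H X) β (by
        rintro ω ω' ⟨s, rfl⟩
        exact ⟨s, (hβ2 s ω).symm⟩)
      invFun := Quotient.map (sa := rsetoid H X) (sb := rsetoid H X) β.symm (by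
        rintro ω ω' ⟨s, rfl⟩
        exact ⟨s, (hβ2' s ω).symm⟩)
      left_inv := by
        rintro ⟨ω⟩
        show qm (β.symm (β ω)) = qm ω
        rw [β.symm_apply_apply]
      right_inv := by
        rintro ⟨ω⟩
        show qm (β (β.symm ω)) = qm ω
        rw [β.apply_symm_apply] }
  exact ⟨bb, fun ω => rfl⟩

/-- a section of `X → Q` that is right equivariant and left equivariant modulo the centre -/
theorem exists_r (hfree : ∀ (s : H) (ω : X), ((1 : H), s) • ω = ω → s = 1) (π : H →* Q)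
    (hST : ∀ ω : X, ∃ q : Q ⧸ Subgroup.center Q, ∀ t : H × H, t • ω = ω →
        (QuotientGroup.mk (π t.2) : Q ⧸ Subgroup.center Q) = q * QuotientGroup.mk (π t.1) * q⁻¹) :
    ∃ r : X → Q, (∀ (s : H) (ω : X), r (((1 : H), s) • ω) = π s * r ω) ∧
      ∀ (u : H) (ω : X), π u * (r ω)⁻¹ * r (((u, (1 : H)) : H × H) • ω) ∈ Subgroup.center Q := by
  classical
  obtain ⟨p, hp⟩ : ∃ p : Q →* Q ⧸ Subgroup.center Q, p = QuotientGroup.mk' (Subgroup.center Q) :=
    ⟨_, rfl⟩
  have hpsurj : Function.Surjective p := by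
    rw [hp]
    exact QuotientGroup.mk'_surjective _
  have hST' : ∀ ω : X, ∃ q : Q ⧸ Subgroup.center Q, ∀ t : H × H, t • ω = ω →
      p (π t.2) = q * p (π t.1) * q⁻¹ := by
    rw [hp]
    exact hST
  choose qb hqb using hST'
  choose ql hql using fun ω : X => hpsurj (qb ω)
  let o : X → X := fun ω => Quotient.out (Quotient.mk (MulAction.orbitRel (H × H) X) ω)
  have ho : ∀ ω : X, ∃ g : H × H, g • o ω = ω := by
    intro ω
    have h1 : (MulAction.orbitRel (H × H) X).r (o ω) ω := Quotient.exact (Quotient.out_eq _)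
    obtain ⟨g, hg⟩ := h1
    exact ⟨g⁻¹, by rw [← hg, inv_smul_smul]⟩
  choose G hG using ho
  have ho_eq : ∀ (t : H × H) (ω : X), o (t • ω) = o ω := by
    intro t ω
    show Quotient.out _ = Quotient.out _
    congr 1
    apply Quotient.sound
    exact ⟨t, rfl⟩
  let r0 : X → Q := fun ω => π (G ω).2 * ql (o ω) * (π (G ω).1)⁻¹
  have hE0 : ∀ (t : H × H) (ω : X),
      p (r0 (t • ω)) = p (π t.2) * p (r0 ω) * (p (π t.1))⁻¹ := by
    intro t ω
    have h1 : ((G (t • ω))⁻¹ * t * G ω) • o ω = o ω := by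
      rw [mul_smul, mul_smul, hG ω, inv_smul_eq_iff, ← ho_eq t ω, hG (t • ω)]
    have h2 := hqb (o ω) _ h1
    have e2 : ((G (t • ω))⁻¹ * t * G ω).2 = (G (t • ω)).2⁻¹ * t.2 * (G ω).2 := rfl
    have e1 : ((G (t • ω))⁻¹ * t * G ω).1 = (G (t • ω)).1⁻¹ * t.1 * (G ω).1 := rfl
    rw [e2, e1] at h2
    simp only [map_mul, map_inv] at h2
    show p (π (G (t • ω)).2 * ql (o (t • ω)) * (π (G (t • ω)).1)⁻¹) =
      p (π t.2) * p (π (G ω).2 * ql (o ω) * (π (G ω).1)⁻¹) * (p (π t.1))⁻¹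
    rw [ho_eq t ω]
    simp only [map_mul, map_inv, hql]
    have h3 : p (π t.2) = p (π (G (t • ω)).2) * (qb (o ω) *
        ((p (π (G (t • ω)).1))⁻¹ * p (π t.1) * p (π (G ω).1)) * (qb (o ω))⁻¹) *
        (p (π (G ω).2))⁻¹ := by
      rw [← h2]
      group
    rw [h3]
    group
  have hs : ∀ ω : X, ∃ s : H, ((1 : H), s) • rho (qm ω : Yq H X) = ω :=
    fun ω => (qm_eq_iff _ _).mp (qm_rho _)
  choose sc hsc using hs
  let r : X → Q := fun ω => π (sc ω) * r0 (rho (qm ω : Yq H X))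
  have hqm_r : ∀ (s : H) (ω : X), (qm (((1 : H), s) • ω) : Yq H X) = qm ω := by
    intro s ω
    rw [eq_comm, qm_eq_iff]
    exact ⟨s, rfl⟩
  have hR : ∀ (s : H) (ω : X), r (((1 : H), s) • ω) = π s * r ω := by
    intro s ω
    have h1 : sc (((1 : H), s) • ω) = s * sc ω := by
      apply free_inj hfree _ _ (rho (qm ω : Yq H X))
      have h2 := hsc (((1 : H), s) • ω)
      rw [hqm_r] at h2
      rw [h2, ← smul_r_mul, hsc ω]
    show π (sc (((1 : H), s) • ω)) * r0 (rho (qm (((1 : H), s) • ω) : Yq H X)) =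
      π s * (π (sc ω) * r0 (rho (qm ω : Yq H X)))
    rw [h1, hqm_r, map_mul, mul_assoc]
  have hpr : ∀ ω : X, p (r ω) = p (r0 ω) := by
    intro ω
    have h1 := hE0 ((1 : H), sc ω) (rho (qm ω : Yq H X))
    rw [hsc ω] at h1
    show p (π (sc ω) * r0 (rho (qm ω : Yq H X))) = _
    rw [h1, map_mul]
    simp
  refine ⟨r, hR, fun u ω => ?_⟩
  have h5 : p (π u * (r ω)⁻¹ * r (((u, (1 : H)) : H × H) • ω)) = 1 := by
    rw [map_mul, map_mul, map_inv, hpr, hpr, hE0]
    simp
  rw [hp] at h5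
  exact (QuotientGroup.eq_one_iff _).mp h5

/-- the twisted transfer -/
theorem exists_coc_hom [Finite H] [Fintype (Yq H X)]
    (hfree : ∀ (s : H) (ω : X), ((1 : H), s) • ω = ω → s = 1) (π : H →* Q)
    (hST : ∀ ω : X, ∃ q : Q ⧸ Subgroup.center Q, ∀ t : H × H, t • ω = ω →
        (QuotientGroup.mk (π t.2) : Q ⧸ Subgroup.center Q) = q * QuotientGroup.mk (π t.1) * q⁻¹) :
    ∃ d0 : H →* Subgroup.center Q,
      ∀ (x x' : H) (hx : π x ∈ Subgroup.center Q) (hx' : π x' ∈ Subgroup.center Q) (β : X ≃ X),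
        (∀ ω, β (((x, (1 : H)) : H × H) • ω) = ((x', (1 : H)) : H × H) • β ω) →
        (∀ (s : H) (ω : X), β (((1 : H), s) • ω) = ((1 : H), s) • β ω) →
        d0 x * (⟨π x, hx⟩ : Subgroup.center Q)⁻¹ ^ Fintype.card (Yq H X) =
          d0 x' * (⟨π x', hx'⟩ : Subgroup.center Q)⁻¹ ^ Fintype.card (Yq H X) := by
  classical
  obtain ⟨r, hR, hE⟩ := exists_r hfree π hST
  let f : H → Yq H X → Subgroup.center Q := fun u y =>
    ⟨π u * (r (rho y))⁻¹ * r (((u, (1 : H)) : H × H) • rho y), hE u (rho y)⟩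
  have hfinv : ∀ (u s : H) (ω : X),
      π u * (r (((1 : H), s) • ω))⁻¹ * r (((u, (1 : H)) : H × H) • ((1 : H), s) • ω) =
        π u * (r ω)⁻¹ * r (((u, (1 : H)) : H × H) • ω) := by
    intro u s ω
    rw [smul_comm_lr, hR, hR]
    group
  have hfq : ∀ (u : H) (ω : X) (y : Yq H X), qm ω = y →
      π u * (r ω)⁻¹ * r (((u, (1 : H)) : H × H) • ω) = (f u y : Q) := by
    intro u ω y hy
    obtain ⟨s, hs⟩ := (qm_eq_iff (rho y) ω).mp (by rw [qm_rho, hy])
    rw [← hs]
    exact hfinv u s (rho y)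
  have hcoc : IsCoc f := by
    intro u u' y
    apply Subtype.ext
    have h1 := hfq u (((u', (1 : H)) : H × H) • rho y) (u' • y) (by rw [← smul_qm, qm_rho])
    show π (u * u') * (r (rho y))⁻¹ * r (((u * u', (1 : H)) : H × H) • rho y) =
      ((f u (u' • y) : Subgroup.center Q) : Q) *
        (π u' * (r (rho y))⁻¹ * r (((u', (1 : H)) : H × H) • rho y))
    rw [← h1, ← smul_l_mul, map_mul]
    have hc := Subgroup.mem_center_iff.mp (hE u' (rho y))
      ((r (((u', (1 : H)) : H × H) • rho y))⁻¹ *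
        r (((u, (1 : H)) : H × H) • ((u', (1 : H)) : H × H) • rho y))
    generalize r (((u, (1 : H)) : H × H) • ((u', (1 : H)) : H × H) • rho y) = B at hc ⊢
    generalize r (((u', (1 : H)) : H × H) • rho y) = A at hc ⊢
    generalize r (rho y) = R0 at hc ⊢
    calc π u * π u' * R0⁻¹ * B = π u * ((π u' * R0⁻¹ * A) * (A⁻¹ * B)) := by group
      _ = π u * ((A⁻¹ * B) * (π u' * R0⁻¹ * A)) := by rw [hc]
      _ = π u * A⁻¹ * B * (π u' * R0⁻¹ * A) := by group
  let d0 : H →* Subgroup.center Q :=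
    { toFun := fun u => ∏ y : Yq H X, f u y
      map_one' := Finset.prod_eq_one (fun y _ => coc_one hcoc y)
      map_mul' := fun a b => pt_mul hcoc Finset.univ a b (fun ω _ => Finset.mem_univ _) }
  refine ⟨d0, ?_⟩
  intro x x' hx hx' β hβ1 hβ2
  let gq : H → X → Q := fun u ω => (r ω)⁻¹ * r (((u, (1 : H)) : H × H) • ω)
  have hgq_inv : ∀ (u s : H) (ω : X), gq u (((1 : H), s) • ω) = gq u ω := by
    intro u s ω
    show (r (((1 : H), s) • ω))⁻¹ * r (((u, (1 : H)) : H × H) • ((1 : H), s) • ω) =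
      (r ω)⁻¹ * r (((u, (1 : H)) : H × H) • ω)
    rw [smul_comm_lr, hR, hR]
    group
  have hgc : ∀ (u : H), π u ∈ Subgroup.center Q → ∀ ω, gq u ω ∈ Subgroup.center Q := by
    intro u hu ω
    have h1 := hE u ω
    have h2 : gq u ω = (π u)⁻¹ * (π u * (r ω)⁻¹ * r (((u, (1 : H)) : H × H) • ω)) := by
      show (r ω)⁻¹ * r (((u, (1 : H)) : H × H) • ω) = _
      group
    rw [h2]
    exact Subgroup.mul_mem _ (Subgroup.inv_mem _ hu) h1
  have hd : ∀ (u : H) (hu : π u ∈ Subgroup.center Q),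
      d0 u * (⟨π u, hu⟩ : Subgroup.center Q)⁻¹ ^ Fintype.card (Yq H X) =
        ∏ y : Yq H X, (⟨gq u (rho y), hgc u hu (rho y)⟩ : Subgroup.center Q) := by
    intro u hu
    show (∏ y : Yq H X, f u y) * _ = _
    rw [← Finset.card_univ, ← Finset.prod_const, ← Finset.prod_mul_distrib]
    apply Finset.prod_congr rfl
    intro y _
    apply Subtype.ext
    show π u * (r (rho y))⁻¹ * r (((u, (1 : H)) : H × H) • rho y) * (π u)⁻¹ =
      (r (rho y))⁻¹ * r (((u, (1 : H)) : H × H) • rho y)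
    have hc := Subgroup.mem_center_iff.mp hu ((r (rho y))⁻¹ * r (((u, (1 : H)) : H × H) • rho y))
    calc π u * (r (rho y))⁻¹ * r (((u, (1 : H)) : H × H) • rho y) * (π u)⁻¹
        = π u * ((r (rho y))⁻¹ * r (((u, (1 : H)) : H × H) • rho y)) * (π u)⁻¹ := by group
      _ = (r (rho y))⁻¹ * r (((u, (1 : H)) : H × H) • rho y) * π u * (π u)⁻¹ := by rw [hc]
      _ = _ := by group
  rw [hd x hx, hd x' hx']
  obtain ⟨bb, hbb⟩ := exists_bb β hβ2
  let t : X → Q := fun ω => (r ω)⁻¹ * r (β ω)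
  have ht_inv : ∀ (s : H) (ω : X), t (((1 : H), s) • ω) = t ω := by
    intro s ω
    show (r (((1 : H), s) • ω))⁻¹ * r (β (((1 : H), s) • ω)) = (r ω)⁻¹ * r (β ω)
    rw [hβ2, hR, hR]
    group
  have hkey : ∀ ω : X,
      gq x' (β ω) = gq x ω * ((t ω)⁻¹ * t (((x, (1 : H)) : H × H) • ω)) := by
    intro ω
    have hc := Subgroup.mem_center_iff.mp (hgc x hx ω) (t ω)⁻¹
    calc gq x' (β ω) = (t ω)⁻¹ * gq x ω * t (((x, (1 : H)) : H × H) • ω) := by
          show (r (β ω))⁻¹ * r (((x', (1 : H)) : H × H) • β ω) =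
            ((r ω)⁻¹ * r (β ω))⁻¹ * ((r ω)⁻¹ * r (((x, (1 : H)) : H × H) • ω)) *
              ((r (((x, (1 : H)) : H × H) • ω))⁻¹ * r (β (((x, (1 : H)) : H × H) • ω)))
          rw [hβ1]
          group
      _ = gq x ω * (t ω)⁻¹ * t (((x, (1 : H)) : H × H) • ω) := by rw [hc]
      _ = _ := by rw [mul_assoc]
  have hcc : ∀ ω, (t ω)⁻¹ * t (((x, (1 : H)) : H × H) • ω) ∈ Subgroup.center Q := by
    intro ω
    have h1 : (t ω)⁻¹ * t (((x, (1 : H)) : H × H) • ω) = (gq x ω)⁻¹ * gq x' (β ω) := by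
      rw [hkey]
      group
    rw [h1]
    exact Subgroup.mul_mem _ (Subgroup.inv_mem _ (hgc x hx ω)) (hgc x' hx' (β ω))
  let tY : Yq H X → Q := fun y => t (rho y)
  have htY : ∀ y : Yq H X, t (((x, (1 : H)) : H × H) • rho y) = tY (x • y) := by
    intro y
    show _ = t (rho (x • y))
    rw [← sg_spec x y, ht_inv]
  have hcY : ∀ y : Yq H X, (tY y)⁻¹ * tY (x • y) ∈ Subgroup.center Q := by
    intro y
    rw [← htY]
    exact hcc (rho y)
  have htel := prod_tel x tY hcY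
  have hmid : ∀ y : Yq H X, gq x' (rho (bb y)) = gq x (rho y) * ((tY y)⁻¹ * tY (x • y)) := by
    intro y
    have h1 : (qm (rho (bb y)) : Yq H X) = qm (β (rho y)) := by rw [qm_rho, ← hbb, qm_rho]
    obtain ⟨s, hs⟩ := (qm_eq_iff _ _).mp h1
    rw [← htY, ← hkey, ← hs, hgq_inv]
  calc ∏ y : Yq H X, (⟨gq x (rho y), hgc x hx (rho y)⟩ : Subgroup.center Q)
      = ∏ y : Yq H X, ((⟨gq x (rho y), hgc x hx (rho y)⟩ : Subgroup.center Q) *
          ⟨(tY y)⁻¹ * tY (x • y), hcY y⟩) := by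
        rw [Finset.prod_mul_distrib, htel, mul_one]
    _ = ∏ y : Yq H X, (⟨gq x' (rho (bb y)), hgc x' hx' (rho (bb y))⟩ : Subgroup.center Q) :=
        Finset.prod_congr rfl (fun y _ => Subtype.ext (hmid y).symm)
    _ = ∏ y : Yq H X, (⟨gq x' (rho y), hgc x' hx' (rho y)⟩ : Subgroup.center Q) :=
        Equiv.prod_comp bb (fun y => (⟨gq x' (rho y), hgc x' hx' (rho y)⟩ : Subgroup.center Q))

end Coc

end Cfsg.Agent.Lib.helper7.Biset
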