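import Mathlib
import Cfsg.Agent.Lib.helper7.CharBiset

set_option autoImplicit false

/-! A characteristic biset adapted to a fusion preserving homomorphism `π : S → Q`: every point
stabilizer is, modulo `π`, conjugation by a single element of `Q`. -/

namespace Cfsg.Agent.Lib.helper7.CharBiset

open Cfsg Cfsg.FusionSystem Cfsg.Agent.Lib.helper25 Cfsg.Agent.Lib.helper7.Marks

universe u v

variable {Ω : Type u} [Group Ω] {S : Subgroup Ω}

section FP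

variable {Q : Type v} [Group Q]

/-- a homomorphism `π : S → Q` is fusion preserving for `F` -/
def IsFP (F : FusionSystem S) (π : ↥S →* Q) : Prop :=
  ∀ (P : Subgroup Ω) (φ : P →* Ω), φ ∈ F.Hom P → ∃ q : Q, ∀ (x : P) (a b : ↥S),
    (a : Ω) = (x : Ω) → (b : Ω) = φ x → π b = q * π a * q⁻¹

/-- `D` is, modulo `π`, conjugation by a single element of `Q` -/
def PK (π : ↥S →* Q) (D : Subgroup (↥S × ↥S)) : Prop :=
  ∃ q : Q, ∀ d ∈ D, π d.2 = q * π d.1 * q⁻¹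

theorem PK_le (π : ↥S →* Q) (D D' : Subgroup (↥S × ↥S)) (hle : D' ≤ D) (h : PK π D) :
    PK π D' := by
  obtain ⟨q, hq⟩ := h
  exact ⟨q, fun d hd => hq d (hle hd)⟩

theorem PK_gr (F : FusionSystem S) (π : ↥S →* Q) (hπ : IsFP F π) (κ : MulAut ↥S)
    (hκ : κ ∈ F.autGroup S) : PK π (gr κ) := by
  have h1 : S.subtype.comp κ.toMonoidHom ∈ F.Hom S :=
    (Cfsg.Agent.Lib.helper26.mem_autGroup_iff F le_rfl κ).mp hκ
  obtain ⟨q, hq⟩ := hπ S _ h1
  refine ⟨q, fun d hd => ?_⟩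
  have h2 : κ d.1 = d.2 := hd
  exact hq d.1 d.1 d.2 rfl (congrArg Subtype.val h2.symm)

theorem PK_conj (π : ↥S →* Q) {D : Subgroup (↥S × ↥S)} (g : ↥S × ↥S) (h : PK π D)
    (D' : Subgroup (↥S × ↥S)) (hD' : ∀ a ∈ D', g⁻¹ * a * g ∈ D) : PK π D' := by
  obtain ⟨q, hq⟩ := h
  refine ⟨π g.2 * q * (π g.1)⁻¹, fun a ha => ?_⟩
  have h1 := hq _ (hD' a ha)
  have h2 : π (g.2⁻¹ * a.2 * g.2) = q * π (g.1⁻¹ * a.1 * g.1) * q⁻¹ := h1
  rw [map_mul, map_mul, map_inv, map_mul, map_mul, map_inv] at h2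
  have h3 : π a.2 = π g.2 * ((π g.2)⁻¹ * π a.2 * π g.2) * (π g.2)⁻¹ := by group
  rw [h3, h2]
  group

theorem PK_CR (F : FusionSystem S) (π : ↥S →* Q) (hπ : IsFP F π) {D D' : Subgroup (↥S × ↥S)}
    (hC : CR F D D') (h : PK π D) : PK π D' := by
  obtain ⟨q, hq⟩ := h
  obtain ⟨φ, hφ, hrange⟩ := hC
  obtain ⟨hP, φ₁, hφ₁, φ₂, hφ₂, rfl⟩ := hφ
  obtain ⟨q₁, hq₁⟩ := hπ _ φ₁ hφ₁
  obtain ⟨q₂, hq₂⟩ := hπ _ φ₂ hφ₂
  refine ⟨q₂ * q * q₁⁻¹, fun d' hd' => ?_⟩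
  have h1 : jj S d' ∈ (prodMap _ φ₁ φ₂).range := by rw [hrange]; exact ⟨d', hd', rfl⟩
  obtain ⟨x, hx⟩ := h1
  obtain ⟨d, hd, hdx⟩ := x.2
  rw [prodMap_apply] at hx
  have h5 : φ₁ ⟨(x : Ω × Ω).1, fst_mem_map x⟩ = (d'.1 : Ω) := congrArg Prod.fst hx
  have h5' : φ₂ ⟨(x : Ω × Ω).2, snd_mem_map x⟩ = (d'.2 : Ω) := congrArg Prod.snd hx
  have h6 : ((x : Ω × Ω)).1 = (d.1 : Ω) := by rw [← hdx]; rfl
  have h6' : ((x : Ω × Ω)).2 = (d.2 : Ω) := by rw [← hdx]; rfl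
  have e1 := hq₁ ⟨(x : Ω × Ω).1, fst_mem_map x⟩ d.1 d'.1 h6.symm h5.symm
  have e2 := hq₂ ⟨(x : Ω × Ω).2, snd_mem_map x⟩ d.2 d'.2 h6'.symm h5'.symm
  rw [e2, hq d hd, e1]
  group

/-- the family in which the stabilization takes place -/
def HFP (F : FusionSystem S) (π : ↥S →* Q) : Set (Subgroup (↥S × ↥S)) :=
  {D | D ∈ HF F ∧ PK π D}

theorem n0_stable_fp [Finite S] [Fintype (Subgroup (↥S × ↥S))] (F : FusionSystem S)
    (π : ↥S →* Q) (hπ : IsFP F π) (D D' : Subgroup (↥S × ↥S)) (hC : CR F D D')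
    (hD : D ∉ HFP F π) : Phi (n0 F) D = Phi (n0 F) D' := by
  classical
  by_cases hH : D ∈ HF F
  · haveI : Fintype (II F) := Fintype.ofFinite _
    have hPK : ¬ PK π D := fun h => hD ⟨hH, h⟩
    have hPK' : ¬ PK π D' := fun h => hPK (PK_CR F π hπ (CR_symm F hC) h)
    rw [Phi_n0, Phi_n0, Finset.sum_eq_zero, Finset.sum_eq_zero]
    · intro q _
      by_contra hne
      obtain ⟨g, hg⟩ := exists_of_mk_ne_zero hne
      exact hPK' (PK_conj π g (PK_gr F π hπ _ (q.out).2) D' hg)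
    · intro q _
      by_contra hne
      obtain ⟨g, hg⟩ := exists_of_mk_ne_zero hne
      exact hPK (PK_conj π g (PK_gr F π hπ _ (q.out).2) D hg)
  · exact n0_stable F D D' hC hH

theorem exists_char_biset_fp [Finite S] {p : ℕ} [Fact p.Prime] (hS : IsPGroup p S)
    (F : FusionSystem S) (hF : F.IsSaturated p) (π : ↥S →* Q) (hπ : IsFP F π) :
    ∃ n : Subgroup (↥S × ↥S) → ℕ,
      (∀ (ω : XS n) (t : ↥S × ↥S), t • ω = ω → F.IsConjElt (t.1 : Ω) (t.2 : Ω)) ∧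
      (∃ m : ℕ, Nat.card (XS n) = Nat.card S * m ∧ ¬ p ∣ m) ∧
      (∀ x x' : ↥S, F.IsConjElt (x : Ω) (x' : Ω) → ∃ β : XS n ≃ XS n,
        (∀ ω, β (((x, 1) : ↥S × ↥S) • ω) = ((x', 1) : ↥S × ↥S) • β ω) ∧
        ∀ (s : ↥S) (ω : XS n), β (((1, s) : ↥S × ↥S) • ω) = ((1, s) : ↥S × ↥S) • β ω) ∧
      (∀ ω : XS n, ∃ q : Q, ∀ t : ↥S × ↥S, t • ω = ω → π t.2 = q * π t.1 * q⁻¹) := by
  classical
  have hp : p.Prime := Fact.out
  haveI : Fintype (Subgroup (↥S × ↥S)) := Fintype.ofFinite _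
  haveI : Fintype (II F) := Fintype.ofFinite _
  obtain ⟨n, hn0', hnst⟩ := stabilize (CR F) (fun _ _ => CR_symm F) (fun _ _ _ => CR_trans F)
    (CR_conj F) (fun _ _ => CR_card F) (CR_sat hS F hF) (HFP F π)
    (fun D D' hle hD => ⟨HF_le F D D' hle hD.1, PK_le π D D' hle hD.2⟩)
    (fun D D' hC hD => ⟨HF_CR F D D' hC hD.1, PK_CR F π hπ hC hD.2⟩) (n0 F)
    (n0_stable_fp F π hπ)
  have hn0 : ∀ D : Subgroup (↥S × ↥S), D ∉ HF F → n D = n0 F D :=
    fun D hD => hn0' D (fun h => hD h.1)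
  have hq_of_ne : ∀ D : Subgroup (↥S × ↥S), n0 F D ≠ 0 → ∃ q : II F, Dq F q = D := by
    intro D h1
    have hne : Nonempty {q : II F // Dq F q = D} := by
      by_contra hcon
      rw [not_nonempty_iff] at hcon
      haveI := hcon
      exact h1 Nat.card_of_isEmpty
    obtain ⟨⟨q, hq⟩⟩ := hne
    exact ⟨q, hq⟩
  have hstruct : ∀ ω : XS n, (ω.1 ∈ HFP F π ∨ ∃ q : II F, Dq F q = ω.1) := by
    intro ω
    by_cases h : ω.1 ∈ HFP F π
    · exact Or.inl h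
    · right
      have h1 := XS_ne n ω
      rw [hn0' _ h] at h1
      exact hq_of_ne _ h1
  have hEWω : ∀ ω : XS n, ∀ d ∈ ω.1, F.IsConjElt (d.1 : Ω) (d.2 : Ω) := by
    intro ω d hd
    rcases hstruct ω with h | ⟨q, hq⟩
    · exact h.1.2 d hd
    · rw [← hq] at hd
      exact gr_elt F _ (q.out).2 d hd
  have hPKω : ∀ ω : XS n, PK π ω.1 := by
    intro ω
    rcases hstruct ω with h | ⟨q, hq⟩
    · exact h.2
    · rw [← hq]
      exact PK_gr F π hπ _ (q.out).2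
  refine ⟨n, ?_, ?_, ?_, ?_⟩
  · intro ω t ht
    obtain ⟨g, hg⟩ := XS_stab' n ω
    exact ce_of_conj_pair F g t (hEWω ω _ (hg t ht))
  · have hcardX := card_XS n
    have hidx : ∀ D : Subgroup (↥S × ↥S), Nat.card D * D.index = Nat.card S * Nat.card S := by
      intro D
      rw [Subgroup.card_mul_index, Nat.card_prod]
    have key : ∀ D : Subgroup (↥S × ↥S), ∃ r : ℕ,
        n D * D.index = Nat.card S * (p * r + n0 F D) := by
      intro D
      by_cases hD : D ∈ HF F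
      · have h0 : n0 F D = 0 := by
          by_contra hne
          obtain ⟨q, hq⟩ := hq_of_ne D hne
          have h1 := hD.1
          rw [← hq] at h1
          unfold Dq at h1
          rw [card_gr] at h1
          exact lt_irrefl _ h1
        obtain ⟨c, hc⟩ := card_dvd_of_EW F D hD.2
        have hDpos : 0 < Nat.card D := Nat.card_pos
        have hc1 : 1 < c := by
          have h1 := hD.1
          rw [hc] at h1
          by_contra hle
          have : c ≤ 1 := by omega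
          nlinarith
        have hpc : p ∣ c := by
          obtain ⟨a, ha⟩ := IsPGroup.iff_card.mp hS
          have hcd : c ∣ p ^ a := by rw [← ha, hc]; exact dvd_mul_left c _
          obtain ⟨b, -, hb⟩ := (Nat.dvd_prime_pow hp).mp hcd
          rw [hb] at hc1 ⊢
          have hb0 : b ≠ 0 := by
            rintro rfl
            simp at hc1
          exact dvd_pow_self p hb0
        obtain ⟨r', hr'⟩ := hpc
        have h3 : D.index = Nat.card S * c := by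
          apply Nat.eq_of_mul_eq_mul_left hDpos
          rw [hidx D]
          nth_rewrite 2 [hc]
          ring
        refine ⟨n D * r', ?_⟩
        rw [h0, h3, hr']
        ring
      · rw [hn0 D hD]
        by_cases h0 : n0 F D = 0
        · exact ⟨0, by simp [h0]⟩
        · obtain ⟨q, hq⟩ := hq_of_ne D h0
          have h2 : Nat.card D = Nat.card S := by rw [← hq]; exact card_gr _
          have h1 := hidx D
          rw [h2] at h1
          have h3 : D.index = Nat.card S := Nat.eq_of_mul_eq_mul_left Nat.card_pos h1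
          exact ⟨0, by rw [h3]; ring⟩
    choose r hr using key
    refine ⟨p * ∑ D, r D + ∑ D, n0 F D, ?_, ?_⟩
    · rw [hcardX, Finset.sum_congr rfl (fun D _ => hr D), ← Finset.mul_sum,
        Finset.sum_add_distrib, Finset.mul_sum]
    · have hsum : ∑ D, n0 F D = Nat.card (II F) := by
        show ∑ D, Nat.card {q : II F // Dq F q = D} = _
        rw [← Nat.card_sigma]
        exact Nat.card_congr (Equiv.sigmaFiberEquiv (Dq F))
      rw [hsum]
      intro hdvd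
      exact not_dvd_card_II F hF ((Nat.dvd_add_right (dvd_mul_right p _)).mp hdvd)
  · intro x x' hxx'
    obtain ⟨ψΩ, hψΩ, hψx⟩ := hxx'
    have hzle : ∀ k : ↥(Subgroup.zpowers x), ((k : ↥S) : Ω) ∈ Subgroup.zpowers (x : Ω) := by
      rintro ⟨k, hk⟩
      obtain ⟨i, rfl⟩ := Subgroup.mem_zpowers_iff.mp hk
      exact ⟨i, by simp⟩
    let ψ₀ : ↥(Subgroup.zpowers x) →* ↥(Subgroup.zpowers (x : Ω)) :=
      (S.subtype.comp (Subgroup.subtype _)).codRestrict _ hzle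
    let ψ : ↥(Subgroup.zpowers x) →* ↥S :=
      (ψΩ.comp ψ₀).codRestrict S (fun k => hom_mem F hψΩ _)
    let ι₁ : ↥(Subgroup.zpowers x) × ↥S →* ↥S × ↥S :=
      (Subgroup.subtype _).prodMap (MonoidHom.id ↥S)
    let ι₂ : ↥(Subgroup.zpowers x) × ↥S →* ↥S × ↥S := ψ.prodMap (MonoidHom.id ↥S)
    have hmarks : ∀ L : Subgroup (↥(Subgroup.zpowers x) × ↥S),
        fixc L (Res ι₁ (XS n)) = fixc L (Res ι₂ (XS n)) := by
      intro L
      rw [fixc_Res, fixc_Res, fixc_XS, fixc_XS]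
      apply hnst
      show (prodSystem F F).IsConj _ _
      have h₁ : ((L.map ι₁).map (jj S)).map (MonoidHom.fst Ω Ω) ≤ Subgroup.zpowers (x : Ω) := by
        rintro _ ⟨_, ⟨_, ⟨l, hl, rfl⟩, rfl⟩, rfl⟩
        exact hzle l.1
      have h₂ : ((L.map ι₁).map (jj S)).map (MonoidHom.snd Ω Ω) ≤ S :=
        map_snd_le (map_jj_le _)
      refine ⟨prodMap _ (ψΩ.comp (Subgroup.inclusion h₁)) (Subgroup.subtype _),
        ⟨map_jj_le _, _, hom_restrict F h₁ hψΩ, _, subtype_mem F h₂, rfl⟩, ?_⟩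
      ext y
      constructor
      · rintro ⟨⟨_, _, ⟨l, hl, rfl⟩, rfl⟩, rfl⟩
        exact ⟨ι₂ l, ⟨l, hl, rfl⟩, rfl⟩
      · rintro ⟨_, ⟨l, hl, rfl⟩, rfl⟩
        exact ⟨⟨jj S (ι₁ l), ⟨_, ⟨l, hl, rfl⟩, rfl⟩⟩, rfl⟩
    obtain ⟨β₀, hβ₀⟩ := marks_iso hmarks
    let β : XS n ≃ XS n := β₀
    have hβ : ∀ (k : ↥(Subgroup.zpowers x) × ↥S) (ω : XS n), β (ι₁ k • ω) = ι₂ k • β ω := hβ₀
    have hψx' : ψ ⟨x, Subgroup.mem_zpowers x⟩ = x' := Subtype.ext hψx
    refine ⟨β, fun ω => ?_, fun s ω => ?_⟩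
    · have h1 := hβ (⟨x, Subgroup.mem_zpowers x⟩, 1) ω
      have e2 : ι₂ (⟨x, Subgroup.mem_zpowers x⟩, 1) = ((x', 1) : ↥S × ↥S) :=
        Prod.ext hψx' rfl
      have h2 : β (((x, 1) : ↥S × ↥S) • ω) = ι₂ (⟨x, Subgroup.mem_zpowers x⟩, 1) • β ω := h1
      rw [h2, e2]
    · have h1 := hβ (1, s) ω
      have e2 : ι₂ (1, s) = ((1, s) : ↥S × ↥S) := Prod.ext (map_one ψ) rfl
      have h2 : β (((1, s) : ↥S × ↥S) • ω) = ι₂ (1, s) • β ω := h1
      rw [h2, e2]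
  · intro ω
    obtain ⟨g, hg⟩ := XS_stab' n ω
    obtain ⟨q, hq⟩ := hPKω ω
    refine ⟨π g.2 * q * (π g.1)⁻¹, fun a ha => ?_⟩
    have h1 := hq _ (hg a ha)
    have h2 : π (g.2⁻¹ * a.2 * g.2) = q * π (g.1⁻¹ * a.1 * g.1) * q⁻¹ := h1
    rw [map_mul, map_mul, map_inv, map_mul, map_mul, map_inv] at h2
    have h3 : π a.2 = π g.2 * ((π g.2)⁻¹ * π a.2 * π g.2) * (π g.2)⁻¹ := by group
    rw [h3, h2]
    group

end FP

end Cfsg.Agent.Lib.helper7.CharBiset
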