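import Mathlib
import Cfsg.Agent.Lib.helper7.CharBiset
import Cfsg.Agent.Lib.helper7.BisetTr

set_option autoImplicit false

/-! Transfer through a characteristic biset of a fusion system. -/

namespace Cfsg.Agent.Lib.helper7.CharBiset

open Cfsg Cfsg.FusionSystem Cfsg.Agent.Lib.helper25 Cfsg.Agent.Lib.helper7.Marks
open Cfsg.Agent.Lib.helper7.Biset

universe u

variable {Ω : Type u} [Group Ω] {S : Subgroup Ω}

theorem focal_le_S (F : FusionSystem S) : F.focalSubgroup ≤ S := by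
  unfold FusionSystem.focalSubgroup
  rw [Subgroup.closure_le]
  rintro y ⟨P, φ, x, hφ, rfl⟩
  exact S.mul_mem (S.inv_mem (hom_le F hφ x.2)) (hom_mem F hφ x)

theorem free_of_elt (F : FusionSystem S) (n : Subgroup (↥S × ↥S) → ℕ)
    (ha : ∀ (ω : XS n) (t : ↥S × ↥S), t • ω = ω → F.IsConjElt (t.1 : Ω) (t.2 : Ω)) :
    ∀ (s : ↥S) (ω : XS n), ((1 : ↥S), s) • ω = ω → s = 1 := by
  intro s ω h
  have h1 : F.IsConjElt (1 : Ω) (s : Ω) := ha ω _ h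
  exact Subtype.ext (ce_one_left F h1)

theorem tr_focal (F : FusionSystem S) (n : Subgroup (↥S × ↥S) → ℕ)
    [Fintype (Yq ↥S (XS n))]
    (hfree : ∀ (s : ↥S) (ω : XS n), ((1 : ↥S), s) • ω = ω → s = 1)
    (hc : ∀ x x' : ↥S, F.IsConjElt (x : Ω) (x' : Ω) → ∃ β : XS n ≃ XS n,
        (∀ ω, β (((x, 1) : ↥S × ↥S) • ω) = ((x', 1) : ↥S × ↥S) • β ω) ∧
        ∀ (s : ↥S) (ω : XS n), β (((1, s) : ↥S × ↥S) • ω) = ((1, s) : ↥S × ↥S) • β ω)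
    {A : Type*} [CommGroup A] (lam : ↥S →* A) (u : ↥S) (hu : (u : Ω) ∈ F.focalSubgroup) :
    tr hfree lam u = 1 := by
  have hle : F.focalSubgroup ≤ (tr hfree lam).ker.map S.subtype := by
    unfold FusionSystem.focalSubgroup
    rw [Subgroup.closure_le]
    rintro y ⟨P, φ, x, hφ, rfl⟩
    have hxS : (x : Ω) ∈ S := hom_le F hφ x.2
    have hφxS : φ x ∈ S := hom_mem F hφ x
    obtain ⟨β, hβ1, hβ2⟩ := hc ⟨x, hxS⟩ ⟨φ x, hφxS⟩ (ce_of_hom F hφ x)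
    have h1 := tr_stable hfree lam ⟨x, hxS⟩ ⟨φ x, hφxS⟩ β hβ1 hβ2
    refine ⟨(⟨x, hxS⟩ : ↥S)⁻¹ * ⟨φ x, hφxS⟩, ?_, rfl⟩
    show tr hfree lam ((⟨x, hxS⟩ : ↥S)⁻¹ * ⟨φ x, hφxS⟩) = 1
    rw [map_mul, map_inv, h1, inv_mul_cancel]
  obtain ⟨v, hv, hvu⟩ := hle hu
  have h2 : v = u := Subtype.ext hvu
  rw [← h2]
  exact hv

end Cfsg.Agent.Lib.helper7.CharBiset
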