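import Mathlib
import Cfsg.Agent.Lib.helper7.AutOrbC

set_option autoImplicit false

/-! `p`-central `p`-groups, `p` odd: if every element of order dividing `p` is central then
`x ^ p = y ^ p` implies `(x⁻¹ * y) ^ p = 1`. -/

namespace Cfsg.Agent.Lib.helper7.PCentral

universe u

theorem pow_eq_aux (p : ℕ) [Fact p.Prime] (hp : p ≠ 2) :
    ∀ n : ℕ, ∀ (R : Type u) [Group R] [Finite R], Nat.card R = n → IsPGroup p R →
      (∀ d : R, d ^ p = 1 → ∀ x : R, d * x = x * d) →
      ∀ x y : R, x ^ p = y ^ p → (x⁻¹ * y) ^ p = 1 := by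
  intro n
  induction n using Nat.strong_induction_on with
  | _ n ih =>
  intro R _ _ hn hR hD x y h
  have hpp : p.Prime := Fact.out
  have sub : ∀ H : Subgroup R, H ≠ ⊤ → ∀ u ∈ H, ∀ v ∈ H, u ^ p = v ^ p →
      (u⁻¹ * v) ^ p = 1 := by
    intro H hH u hu v hv huv
    have hlt : Nat.card H < n := by
      rw [← hn]
      refine lt_of_le_of_ne (Subgroup.card_le_card_group H) ?_
      intro he
      exact hH ((Subgroup.card_eq_iff_eq_top H).mp he)
    have h1 := ih (Nat.card H) hlt H rfl (hR.to_subgroup H) (by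
      intro d hd z
      have hd' : (d : R) ^ p = 1 := by
        have := congrArg Subtype.val hd
        simpa using this
      exact Subtype.ext (hD (d : R) hd' (z : R))) ⟨u, hu⟩ ⟨v, hv⟩
      (Subtype.ext (by simpa using huv))
    have h2 := congrArg Subtype.val h1
    simpa using h2
  by_cases hxy : x * y = y * x
  · have hc : Commute x⁻¹ y := Commute.inv_left (show Commute x y from hxy)
    rw [hc.mul_pow, inv_pow, h]
    simp
  · have hz : Subgroup.zpowers x ≠ ⊤ := by
      intro htop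
      apply hxy
      have hy : y ∈ Subgroup.zpowers x := htop ▸ Subgroup.mem_top y
      obtain ⟨k, rfl⟩ := Subgroup.mem_zpowers_iff.mp hy
      exact (Commute.zpow_right (Commute.refl x) k).eq
    obtain ⟨M, hM, hxM⟩ := (eq_top_or_exists_le_coatom (Subgroup.zpowers x)).resolve_left hz
    haveI hnil : Group.IsNilpotent R := hR.isNilpotent
    have hMn : M.Normal :=
      Subgroup.NormalizerCondition.normal_of_coatom M Group.normalizerCondition_of_isNilpotent hM
    have hx : x ∈ M := hxM (Subgroup.mem_zpowers x)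
    have hx' : y⁻¹ * x * y ∈ M := by
      have := hMn.conj_mem x hx y⁻¹
      simpa using this
    have h1 : (y⁻¹ * x * y) ^ p = x ^ p := by
      have e : (y⁻¹ * x * y) ^ p = y⁻¹ * x ^ p * y := by
        have := conj_pow (a := y⁻¹) (b := x) (i := p)
        simpa using this
      rw [e, h]
      group
    have h2 := sub M hM.1 x hx (y⁻¹ * x * y) hx' h1.symm
    have hcc : ∀ z : R, (x⁻¹ * (y⁻¹ * x * y)) * z = z * (x⁻¹ * (y⁻¹ * x * y)) := hD _ h2
    have hyx : y * x⁻¹ = (x⁻¹ * (y⁻¹ * x * y)) * x⁻¹ * y := by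
      have e := hcc y⁻¹
      -- c * y⁻¹ = y⁻¹ * c  →  c = y⁻¹ * c * y
      have e2 : x⁻¹ * (y⁻¹ * x * y) = y * (x⁻¹ * (y⁻¹ * x * y)) * y⁻¹ := by
        have : y * (x⁻¹ * (y⁻¹ * x * y)) * y⁻¹ = y * ((x⁻¹ * (y⁻¹ * x * y)) * y⁻¹) := by
          group
        rw [this, e]
        group
      calc y * x⁻¹ = (y * (x⁻¹ * (y⁻¹ * x * y)) * y⁻¹) * x⁻¹ * y := by group
        _ = (x⁻¹ * (y⁻¹ * x * y)) * x⁻¹ * y := by rw [← e2]
    have h3 := Cfsg.Agent.Lib.helper7.AutOrbC.mul_pow_central x⁻¹ y _ hcc hyx p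
    rw [h3, inv_pow, h]
    have hdvd : p ∣ ∑ i ∈ Finset.range p, i := by
      have h4 := Finset.sum_range_id_mul_two p
      have h5 : p ∣ (∑ i ∈ Finset.range p, i) * 2 := by
        rw [h4]
        exact dvd_mul_right p (p - 1)
      rcases (Nat.Prime.dvd_mul hpp).mp h5 with h6 | h6
      · exact h6
      · exfalso
        have := (Nat.prime_dvd_prime_iff_eq hpp Nat.prime_two).mp h6
        exact hp this
    obtain ⟨k, hk⟩ := hdvd
    rw [hk, pow_mul, h2]
    simp

/-- In a finite `p`-group, `p` odd, all of whose elements of order dividing `p` are central,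
`x ^ p = y ^ p` forces `(x⁻¹ * y) ^ p = 1`. -/
theorem pow_eq {R : Type*} [Group R] [Finite R] (p : ℕ) [Fact p.Prime] (hp : p ≠ 2)
    (hR : IsPGroup p R) (hD : ∀ d : R, d ^ p = 1 → ∀ x : R, d * x = x * d)
    (x y : R) (h : x ^ p = y ^ p) : (x⁻¹ * y) ^ p = 1 :=
  pow_eq_aux p hp (Nat.card R) R rfl hR hD x y h

end Cfsg.Agent.Lib.helper7.PCentral
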