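import Mathlib
import Cfsg.Agent.Lib.helper7.CharBisetFP
import Cfsg.Agent.Lib.helper7.BisetCoc
import Cfsg.Agent.Lib.helper7.FusTransfer
import Cfsg.Agent.Lib.helper25.Hyperfocal
import Cfsg.Agent.Lib.helper25.Subnormal

set_option autoImplicit false

/-! Tate's theorem for fusion systems: helper results. -/

namespace Cfsg.Agent.Lib.helper7.TateFus

open Cfsg Cfsg.FusionSystem Cfsg.Agent.Lib.helper25 Cfsg.Agent.Lib.helper7.Marks
open Cfsg.Agent.Lib.helper7.Biset Cfsg.Agent.Lib.helper7.CharBiset Cfsg.Agent.Lib.helper7.Yoshida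
open scoped commutatorElement IsMulCommutative

universe u v

variable {Ω : Type u} [Group Ω] {S : Subgroup Ω}

/-- every morphism of a saturated system is, modulo the hyperfocal subgroup, conjugation by an
element of `S` -/
theorem fp_mod_hyp [Finite S] {p : ℕ} [Fact p.Prime] (hS : IsPGroup p S)
    (F : FusionSystem S) (hF : F.IsSaturated p) :
    ∀ (U : Subgroup Ω) (φ : U →* Ω), φ ∈ F.Hom U → ∃ t ∈ S, ∀ x : U,
      φ x * (t * (x : Ω) * t⁻¹)⁻¹ ∈ F.hyperfocalSubgroup p := by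
  apply Cfsg.Agent.Lib.helper26.alperin_induction hS F hF
    (fun U φ => ∃ t ∈ S, ∀ x : U, φ x * (t * (x : Ω) * t⁻¹)⁻¹ ∈ F.hyperfocalSubgroup p)
  · rintro U V φ h _ ⟨t, ht, hPr⟩
    exact ⟨t, ht, fun x => hPr (Subgroup.inclusion h x)⟩
  · rintro U V φ ψ h _ _ ⟨t1, ht1, h1⟩ ⟨t2, ht2, h2⟩
    refine ⟨t2 * t1, S.mul_mem ht2 ht1, fun x => ?_⟩
    have h3 : (ψ.comp (φ.codRestrict V h)) x * (t2 * t1 * (x : Ω) * (t2 * t1)⁻¹)⁻¹ =
        (ψ ⟨φ x, h x⟩ * (t2 * φ x * t2⁻¹)⁻¹) *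
          (t2 * (φ x * (t1 * (x : Ω) * t1⁻¹)⁻¹) * t2⁻¹) := by
      show ψ ⟨φ x, h x⟩ * _ = _
      group
    rw [h3]
    exact Subgroup.mul_mem _ (h2 ⟨φ x, h x⟩) (hyperfocal_conj_mem F p ht2 (h1 x))
  · intro W hW _ α hα
    have hfa := Cfsg.Agent.Lib.helper26.fullyAutomized_of_fullyNormalized hS F hF hW
    obtain ⟨ρ, hρ, g, rfl⟩ := exists_residual_mul_conj F hfa α
      ((Cfsg.Agent.Lib.helper26.mem_autGroup_iff F hW.1 α).2 hα)
    refine ⟨g, g.2.1, fun x => ?_⟩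
    have h2 := mem_hyperfocal F p hW.1 ρ hρ (Cfsg.Agent.Lib.helper26.conjAut S W g x)
    have hy : ((Cfsg.Agent.Lib.helper26.conjAut S W g x : W) : Ω) ∈ S := hW.1 (Subtype.mem _)
    have h3 := hyperfocal_conj_mem F p hy h2
    have h4 : (W.subtype.comp
        ((ρ : MulAut W) * Cfsg.Agent.Lib.helper26.conjAut S W g).toMonoidHom) x *
        ((g : Ω) * (x : Ω) * (g : Ω)⁻¹)⁻¹ =
        ((Cfsg.Agent.Lib.helper26.conjAut S W g x : W) : Ω) *
          (((Cfsg.Agent.Lib.helper26.conjAut S W g x : W) : Ω)⁻¹ *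
            ((ρ : MulAut W) (Cfsg.Agent.Lib.helper26.conjAut S W g x) : W)) *
          ((Cfsg.Agent.Lib.helper26.conjAut S W g x : W) : Ω)⁻¹ := by
      rw [mul_inv_cancel_left, Cfsg.Agent.Lib.helper26.conjAut_apply]
      rfl
    rw [h4]
    exact h3

/-- a homomorphism killing the hyperfocal subgroup is fusion preserving -/
theorem isFP_of_hyp [Finite S] {p : ℕ} [Fact p.Prime] (hS : IsPGroup p S)
    (F : FusionSystem S) (hF : F.IsSaturated p) {Q : Type v} [Group Q] (π : ↥S →* Q)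
    (hπ : ∀ k : ↥S, (k : Ω) ∈ F.hyperfocalSubgroup p → π k = 1) : IsFP F π := by
  intro P φ hφ
  obtain ⟨t, ht, h⟩ := fp_mod_hyp hS F hF P φ hφ
  refine ⟨π ⟨t, ht⟩, fun x a b ha hb => ?_⟩
  have h1 := h x
  have h2 : π (b * ((⟨t, ht⟩ : ↥S) * a * (⟨t, ht⟩ : ↥S)⁻¹)⁻¹) = 1 := by
    apply hπ
    show (b : Ω) * (t * (a : Ω) * t⁻¹)⁻¹ ∈ _
    rw [ha, hb]
    exact h1
  rw [map_mul, map_inv, mul_inv_eq_one, map_mul, map_mul, map_inv] at h2
  exact h2

/-- an `F`-stable homomorphism from the hyperfocal subgroup to an abelian group is trivial -/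
theorem stable_hom_trivial [Finite S] {p : ℕ} [Fact p.Prime] (hS : IsPGroup p S)
    (F : FusionSystem S) (hF : F.IsSaturated p) {A : Type v} [CommGroup A]
    (Gk : ↥(F.hyperfocalSubgroup p) →* A)
    (hst : ∀ x x' : ↥(F.hyperfocalSubgroup p), F.IsConjElt (x : Ω) (x' : Ω) → Gk x = Gk x') :
    ∀ k, Gk k = 1 := by
  have hp : p.Prime := Fact.out
  have hsc := hyperfocal_stronglyClosed hS F hF
  have hKp : IsPGroup p ↥(F.hyperfocalSubgroup p) := hS.to_le (hyperfocal_le F p)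
  have hone : ∀ (y : Ω) (hy : y ∈ F.hyperfocalSubgroup p), y = 1 → Gk ⟨y, hy⟩ = 1 := by
    rintro y hy rfl
    exact map_one Gk
  have key : ∀ (P : Subgroup Ω) (hP : P ≤ S) (α : F.autGroup P),
      α ∈ pResidual p (F.autGroup P) → ∀ (x : P)
      (h : (x : Ω)⁻¹ * ((α : MulAut P) x : P) ∈ F.hyperfocalSubgroup p), Gk ⟨_, h⟩ = 1 := by
    intro P hP α hα
    induction hα using Subgroup.closure_induction with
    | mem g hg =>
      intro x h
      have hg' : Nat.Coprime (orderOf g) p := hg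
      have hgmem : ∀ j : ℕ, P.subtype.comp ((g : MulAut P) ^ j).toMonoidHom ∈ F.Hom P := fun j =>
        (Cfsg.Agent.Lib.helper26.mem_autGroup_iff F hP _).1 (Subgroup.pow_mem _ g.2 j)
      obtain ⟨c, hc⟩ : ∃ c : P, c = x⁻¹ * (g : MulAut P) x := ⟨_, rfl⟩
      have hcK : (c : Ω) ∈ F.hyperfocalSubgroup p := by
        rw [hc]
        exact h
      have hjK : ∀ j : ℕ, ((((g : MulAut P) ^ j) c : P) : Ω) ∈ F.hyperfocalSubgroup p :=
        fun j => hom_mem_of_stronglyClosed F hsc (hgmem j) hcK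
      have hstep : ∀ j : ℕ, ∃ hj : (x : Ω)⁻¹ * ((((g : MulAut P) ^ j) x : P) : Ω) ∈
          F.hyperfocalSubgroup p, Gk ⟨_, hj⟩ = Gk ⟨(c : Ω), hcK⟩ ^ j := by
        intro j
        induction j with
        | zero =>
          have e : (x : Ω)⁻¹ * ((((g : MulAut P) ^ 0) x : P) : Ω) = 1 := by
            rw [pow_zero]
            show (x : Ω)⁻¹ * (x : Ω) = 1
            exact inv_mul_cancel _
          refine ⟨e ▸ Subgroup.one_mem _, ?_⟩
          exact (hone _ _ e).trans (pow_zero _).symm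
        | succ j ih =>
          obtain ⟨hj, ih⟩ := ih
          have e : (x : Ω)⁻¹ * ((((g : MulAut P) ^ (j + 1)) x : P) : Ω) =
              ((x : Ω)⁻¹ * ((((g : MulAut P) ^ j) x : P) : Ω)) *
                ((((g : MulAut P) ^ j) c : P) : Ω) := by
            have e1 : ((g : MulAut P) ^ (j + 1)) x =
                ((g : MulAut P) ^ j) x * ((g : MulAut P) ^ j) c := by
              rw [← map_mul, hc, mul_inv_cancel_left, pow_succ]
              rfl
            rw [e1, Subgroup.coe_mul, mul_assoc]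
          have hmem : (x : Ω)⁻¹ * ((((g : MulAut P) ^ (j + 1)) x : P) : Ω) ∈
              F.hyperfocalSubgroup p := by
            rw [e]
            exact Subgroup.mul_mem _ hj (hjK j)
          refine ⟨hmem, ?_⟩
          have e2 : (⟨_, hmem⟩ : ↥(F.hyperfocalSubgroup p)) = ⟨_, hj⟩ * ⟨_, hjK j⟩ :=
            Subtype.ext e
          rw [e2, map_mul, ih, pow_succ]
          congr 1
          exact (hst ⟨c, hcK⟩ ⟨_, hjK j⟩ (ce_of_hom F (hgmem j) c)).symm
      obtain ⟨hk, hk2⟩ := hstep (orderOf g)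
      have hgk : (g : MulAut P) ^ orderOf g = 1 := by
        rw [← Subgroup.coe_pow, pow_orderOf_eq_one]
        rfl
      have e3 : (x : Ω)⁻¹ * ((((g : MulAut P) ^ orderOf g) x : P) : Ω) = 1 := by
        rw [hgk]
        show (x : Ω)⁻¹ * (x : Ω) = 1
        exact inv_mul_cancel _
      rw [hone _ hk e3] at hk2
      obtain ⟨n, hn⟩ := hKp ⟨(c : Ω), hcK⟩
      have hpn : Gk ⟨(c : Ω), hcK⟩ ^ p ^ n = 1 := by
        rw [← map_pow, hn, map_one]
      have h5 : orderOf (Gk ⟨(c : Ω), hcK⟩) ∣ orderOf g := orderOf_dvd_of_pow_eq_one hk2.symm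
      have h6 : orderOf (Gk ⟨(c : Ω), hcK⟩) ∣ p ^ n := orderOf_dvd_of_pow_eq_one hpn
      have h7 : orderOf (Gk ⟨(c : Ω), hcK⟩) ∣ Nat.gcd (orderOf g) (p ^ n) := Nat.dvd_gcd h5 h6
      rw [(Nat.Coprime.pow_right n hg').gcd_eq_one] at h7
      have h8 : Gk ⟨(c : Ω), hcK⟩ = 1 := orderOf_eq_one_iff.mp (Nat.dvd_one.mp h7)
      have e4 : (⟨_, h⟩ : ↥(F.hyperfocalSubgroup p)) = ⟨(c : Ω), hcK⟩ := by
        apply Subtype.ext
        exact (congrArg Subtype.val hc).symm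
      rw [e4]
      exact h8
    | one =>
      intro x h
      apply hone
      show (x : Ω)⁻¹ * (x : Ω) = 1
      exact inv_mul_cancel _
    | mul a b ha hb iha ihb =>
      intro x h
      have h1 := mem_hyperfocal F p hP b hb x
      have h2 := mem_hyperfocal F p hP a ha ((b : MulAut P) x)
      have e : (⟨_, h⟩ : ↥(F.hyperfocalSubgroup p)) = ⟨_, h1⟩ * ⟨_, h2⟩ := by
        apply Subtype.ext
        show (x : Ω)⁻¹ * (((a : MulAut P) ((b : MulAut P) x) : P) : Ω) =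
          ((x : Ω)⁻¹ * (((b : MulAut P) x : P) : Ω)) *
            ((((b : MulAut P) x : P) : Ω)⁻¹ * (((a : MulAut P) ((b : MulAut P) x) : P) : Ω))
        rw [mul_assoc, mul_inv_cancel_left]
      rw [e, map_mul, ihb x h1, iha _ h2, one_mul]
    | inv a ha iha =>
      intro x h
      have h1 := mem_hyperfocal F p hP a ha ((a : MulAut P)⁻¹ x)
      have e : (⟨_, h⟩ : ↥(F.hyperfocalSubgroup p)) = (⟨_, h1⟩)⁻¹ := by
        apply Subtype.ext
        show (x : Ω)⁻¹ * ((((a : MulAut P)⁻¹ x : P)) : Ω) =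
          ((((a : MulAut P)⁻¹ x : P) : Ω)⁻¹ * (((a : MulAut P) ((a : MulAut P)⁻¹ x) : P) : Ω))⁻¹
        rw [MulAut.apply_inv_self, mul_inv_rev, inv_inv]
      rw [e, map_inv, iha _ h1, inv_one]
  have hle : F.hyperfocalSubgroup p ≤ Gk.ker.map (F.hyperfocalSubgroup p).subtype := by
    conv_lhs => unfold FusionSystem.hyperfocalSubgroup
    rw [Subgroup.closure_le]
    rintro y ⟨P, α, x, hP, hα, rfl⟩
    have hmem := mem_hyperfocal F p hP α hα x
    exact ⟨⟨_, hmem⟩, key P hP α hα x hmem, rfl⟩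
  intro k
  obtain ⟨v, hv, hvk⟩ := hle k.2
  have h2 : v = k := Subtype.ext hvk
  rw [← h2]
  exact hv

/-- in a nilpotent group, `K ≤ N [K, G]` with `N` normal forces `K ≤ N` -/
theorem le_of_le_sup_comm {G : Type*} [Group G] [Group.IsNilpotent G] (K N : Subgroup G)
    [N.Normal] (h : K ≤ N ⊔ ⁅K, (⊤ : Subgroup G)⁆) : K ≤ N := by
  have h1 : K.map (QuotientGroup.mk' N) ≤
      ⁅K.map (QuotientGroup.mk' N), (⊤ : Subgroup (G ⧸ N))⁆ := by
    have e1 : (N ⊔ ⁅K, (⊤ : Subgroup G)⁆).map (QuotientGroup.mk' N) =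
        ⁅K.map (QuotientGroup.mk' N), (⊤ : Subgroup G).map (QuotientGroup.mk' N)⁆ := by
      rw [Subgroup.map_sup, QuotientGroup.map_mk'_self, bot_sup_eq, Subgroup.map_commutator]
    exact ((Subgroup.map_mono h).trans e1.le).trans (Subgroup.commutator_mono le_rfl le_top)
  have h2 : ∀ i : ℕ, K.map (QuotientGroup.mk' N) ≤
      Subgroup.lowerCentralSeries (⊤ : Subgroup (G ⧸ N)) i := by
    intro i
    induction i with
    | zero =>
      rw [Subgroup.lowerCentralSeries_zero]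
      exact le_top
    | succ i ih =>
      refine h1.trans ?_
      rw [Subgroup.lowerCentralSeries_succ]
      exact Subgroup.commutator_mono ih le_rfl
  have h3 : K.map (QuotientGroup.mk' N) = ⊥ := by
    rw [eq_bot_iff, ← Subgroup.lowerCentralSeries_nilpotencyClass (G := G ⧸ N)]
    exact h2 _
  intro k hk
  have h4 : QuotientGroup.mk' N k ∈ K.map (QuotientGroup.mk' N) := Subgroup.mem_map_of_mem _ hk
  rw [h3, Subgroup.mem_bot] at h4
  exact (QuotientGroup.eq_one_iff _).mp h4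

/-- the hyperfocal subgroup is the least `S`-invariant subgroup `N` of itself with
`foc(F) ≤ N S'` -/
theorem hyp_le_of_focal_le [Finite S] {p : ℕ} [Fact p.Prime] (hS : IsPGroup p S)
    (F : FusionSystem S) (hF : F.IsSaturated p) (N : Subgroup Ω)
    (hNK : N ≤ F.hyperfocalSubgroup p)
    (hNn : ∀ s ∈ S, ∀ n ∈ N, s * n * s⁻¹ ∈ N)
    (hfoc : F.focalSubgroup ≤ N ⊔ ⁅(S : Subgroup Ω), (S : Subgroup Ω)⁆) :
    F.hyperfocalSubgroup p ≤ N := by
  classical
  have hp : p.Prime := Fact.out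
  have hKS : F.hyperfocalSubgroup p ≤ S := hyperfocal_le F p
  let K' : Subgroup ↥S := (F.hyperfocalSubgroup p).subgroupOf S
  let N' : Subgroup ↥S := N.subgroupOf S
  haveI hN'n : N'.Normal := ⟨fun n hn s => hNn s s.2 n hn⟩
  haveI hK'n : K'.Normal := ⟨fun k hk s => hyperfocal_conj_mem F p s.2 hk⟩
  let M' : Subgroup ↥S := N' ⊔ ⁅K', (⊤ : Subgroup ↥S)⁆
  haveI hM'n : M'.Normal := inferInstance
  let πM : ↥S →* ↥S ⧸ M' := QuotientGroup.mk' M'
  have hcen : ∀ k : ↥S, (k : Ω) ∈ F.hyperfocalSubgroup p →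
      πM k ∈ Subgroup.center (↥S ⧸ M') := by
    intro k hk
    rw [Subgroup.mem_center_iff]
    intro g
    obtain ⟨s, rfl⟩ := QuotientGroup.mk'_surjective M' g
    show πM s * πM k = πM k * πM s
    rw [← map_mul, ← map_mul]
    apply (QuotientGroup.eq).mpr
    have h1 : (s * k)⁻¹ * (k * s) = ⁅k⁻¹, s⁻¹⁆ := by
      rw [commutatorElement_def]
      group
    rw [h1]
    have hk' : k ∈ K' := hk
    exact Subgroup.mem_sup_right
      (Subgroup.commutator_mem_commutator (K'.inv_mem hk') (Subgroup.mem_top _))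
  let π' : ↥S →* (↥S ⧸ M') ⧸ Subgroup.center (↥S ⧸ M') := (QuotientGroup.mk' _).comp πM
  have hπ' : IsFP F π' := isFP_of_hyp hS F hF π' (fun k hk => by
    show QuotientGroup.mk' _ (πM k) = 1
    exact (QuotientGroup.eq_one_iff _).mpr (hcen k hk))
  obtain ⟨n, ha, ⟨m, hm, hpm⟩, hc, he⟩ := exists_char_biset_fp hS F hF π' hπ'
  have hfree := free_of_elt F n ha
  haveI : Fintype (Yq ↥S (XS n)) := Fintype.ofFinite _
  obtain ⟨d0, hd0⟩ := exists_coc_hom hfree πM he
  have hY : Fintype.card (Yq ↥S (XS n)) = m := by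
    have h1 := card_eq hfree
    rw [hm, mul_comm, Nat.card_eq_fintype_card (α := Yq ↥S (XS n))] at h1
    exact (Nat.eq_of_mul_eq_mul_right Nat.card_pos h1).symm
  rw [hY] at hd0
  let ιK : ↥(F.hyperfocalSubgroup p) →* ↥S := Subgroup.inclusion hKS
  let πK : ↥(F.hyperfocalSubgroup p) →* Subgroup.center (↥S ⧸ M') :=
    (πM.comp ιK).codRestrict _ (fun k => hcen (ιK k) k.2)
  let Gk : ↥(F.hyperfocalSubgroup p) →* Subgroup.center (↥S ⧸ M') :=
    MonoidHom.mk' (fun k => d0 (ιK k) * (πK k)⁻¹ ^ m) (by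
      intro a b
      simp only [map_mul, mul_inv, mul_pow]
      exact mul_mul_mul_comm _ _ _ _)
  have hGk : ∀ k, Gk k = 1 := by
    apply stable_hom_trivial hS F hF Gk
    intro x x' hxx'
    obtain ⟨β, hβ1, hβ2⟩ := hc (ιK x) (ιK x') hxx'
    exact hd0 (ιK x) (ιK x') (hcen _ x.2) (hcen _ x'.2) β hβ1 hβ2
  have hd0K : ∀ k : ↥(F.hyperfocalSubgroup p), d0 (ιK k) = (πK k) ^ m := by
    intro k
    have h1 : d0 (ιK k) * (πK k)⁻¹ ^ m = 1 := hGk k
    rw [inv_pow, mul_inv_eq_one] at h1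
    exact h1
  have hd0N : ∀ x : ↥S, (x : Ω) ∈ N → d0 x = 1 := by
    intro x hx
    have hxK : (x : Ω) ∈ F.hyperfocalSubgroup p := hNK hx
    have h1 := hd0K ⟨x, hxK⟩
    have h2 : ιK ⟨(x : Ω), hxK⟩ = x := rfl
    rw [h2] at h1
    rw [h1]
    have h3 : πK ⟨(x : Ω), hxK⟩ = 1 := by
      apply Subtype.ext
      show πM x = 1
      have hx' : x ∈ N' := hx
      exact (QuotientGroup.eq_one_iff _).mpr (Subgroup.mem_sup_left hx')
    rw [h3, one_pow]
  have hd0c : commutator ↥S ≤ d0.ker := Abelianization.commutator_subset_ker d0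
  have hle : N ⊔ ⁅(S : Subgroup Ω), (S : Subgroup Ω)⁆ ≤ d0.ker.map S.subtype := by
    apply sup_le
    · intro y hy
      have hyS : y ∈ S := hKS (hNK hy)
      exact ⟨⟨y, hyS⟩, hd0N ⟨y, hyS⟩ hy, rfl⟩
    · rw [← Subgroup.map_subtype_commutator]
      exact Subgroup.map_mono hd0c
  have hd0f : ∀ x : ↥S, (x : Ω) ∈ F.focalSubgroup → d0 x = 1 := by
    intro x hx
    obtain ⟨v, hv, hvx⟩ := hle (hfoc hx)
    have h2 : v = x := Subtype.ext hvx
    rw [← h2]
    exact hv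
  have hKfoc : F.hyperfocalSubgroup p ≤ F.focalSubgroup := by
    rw [focal_eq_hyperfocal_sup hS F hF]
    exact le_sup_left
  obtain ⟨a, hcard⟩ := IsPGroup.iff_card.mp hS
  have hcop : Nat.Coprime m (p ^ a) :=
    Nat.Coprime.pow_right a ((Nat.coprime_comm.mp ((hp.coprime_iff_not_dvd).mpr hpm)))
  have hK'M' : K' ≤ M' := by
    intro k hk
    have hkK : (k : Ω) ∈ F.hyperfocalSubgroup p := hk
    have h1 : d0 k = 1 := hd0f k (hKfoc hkK)
    have h2 := hd0K ⟨(k : Ω), hkK⟩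
    have h3 : ιK ⟨(k : Ω), hkK⟩ = k := rfl
    rw [h3, h1] at h2
    have h4 : πK ⟨(k : Ω), hkK⟩ ^ Nat.card S = 1 := by
      apply Subtype.ext
      rw [Subgroup.coe_pow]
      show (πM k) ^ Nat.card S = 1
      rw [← map_pow, pow_card_eq_one', map_one]
    have h5 : orderOf (πK ⟨(k : Ω), hkK⟩) ∣ m := orderOf_dvd_of_pow_eq_one h2.symm
    have h6 : orderOf (πK ⟨(k : Ω), hkK⟩) ∣ p ^ a := hcard ▸ orderOf_dvd_of_pow_eq_one h4
    have h7 : orderOf (πK ⟨(k : Ω), hkK⟩) ∣ Nat.gcd m (p ^ a) := Nat.dvd_gcd h5 h6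
    rw [hcop.gcd_eq_one] at h7
    have h8 : πK ⟨(k : Ω), hkK⟩ = 1 := orderOf_eq_one_iff.mp (Nat.dvd_one.mp h7)
    have h9 : πM k = 1 := congrArg Subtype.val h8
    exact (QuotientGroup.eq_one_iff _).mp h9
  haveI : Group.IsNilpotent ↥S := hS.isNilpotent
  have hK'N' : K' ≤ N' := le_of_le_sup_comm K' N' hK'M'
  intro k hk
  have h1 : (⟨k, hKS hk⟩ : ↥S) ∈ K' := hk
  exact hK'N' h1

theorem hyperfocal_mono (F H : FusionSystem S) (p : ℕ) (hHF : H.IsSubsystemOf F) :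
    H.hyperfocalSubgroup p ≤ F.hyperfocalSubgroup p := by
  conv_lhs => unfold FusionSystem.hyperfocalSubgroup
  rw [Subgroup.closure_le]
  rintro y ⟨P, α, x, hP, hα, rfl⟩
  have hle : H.autGroup P ≤ F.autGroup P := Subgroup.closure_mono (fun β hβ => hHF P hβ)
  have h1 : Subgroup.inclusion hle α ∈ pResidual p (F.autGroup P) :=
    map_pResidual_le p (Subgroup.inclusion hle) ⟨α, hα, rfl⟩
  exact mem_hyperfocal F p hP (Subgroup.inclusion hle α) h1 x

theorem focal_mono (F H : FusionSystem S) (hHF : H.IsSubsystemOf F) :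
    H.focalSubgroup ≤ F.focalSubgroup := by
  unfold FusionSystem.focalSubgroup
  apply Subgroup.closure_mono
  rintro y ⟨P, φ, x, hφ, rfl⟩
  exact ⟨P, φ, x, hHF P hφ, rfl⟩

theorem comm_le_focal (F : FusionSystem S) :
    ⁅(S : Subgroup Ω), (S : Subgroup Ω)⁆ ≤ F.focalSubgroup := by
  rw [Subgroup.commutator_le]
  intro a ha b hb
  have h1 : ⁅a, b⁆ = ((⟨a⁻¹, S.inv_mem ha⟩ : ↥S) : Ω)⁻¹ *
      Cfsg.conjHom S b ⟨a⁻¹, S.inv_mem ha⟩ := by
    rw [conjHom_apply, commutatorElement_def]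
    simp [mul_assoc]
  rw [h1]
  exact Subgroup.subset_closure ⟨S, Cfsg.conjHom S b, ⟨a⁻¹, S.inv_mem ha⟩,
    F.conj_mem le_rfl hb, rfl⟩

theorem ce_focal (F : FusionSystem S) {x y : Ω} (h : F.IsConjElt x y) :
    x⁻¹ * y ∈ F.focalSubgroup := by
  obtain ⟨φ, hφ, rfl⟩ := h
  exact Subgroup.subset_closure ⟨_, φ, ⟨x, Subgroup.mem_zpowers x⟩, hφ, rfl⟩

theorem tr_comp {H : Type*} [Group H] {X : Type*} [MulAction (H × H) X] [Fintype (Yq H X)]
    (hfree : ∀ (s : H) (ω : X), ((1 : H), s) • ω = ω → s = 1)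
    {A B : Type*} [CommGroup A] [CommGroup B] (lam : H →* A) (ψ : A →* B) (u : H) :
    ψ (tr hfree lam u) = tr hfree (ψ.comp lam) u := by
  rw [tr_apply, tr_apply, map_prod]
  apply Finset.prod_congr rfl
  intro y _
  unfold bc
  rw [map_inv]
  rfl

/-- the transfer of a homomorphism killing the focal subgroup is the `m`-th power -/
theorem tr_stable_eval [Finite S] (F : FusionSystem S) (n : Subgroup (↥S × ↥S) → ℕ)
    [Fintype (Yq ↥S (XS n))]
    (hfree : ∀ (s : ↥S) (ω : XS n), ((1 : ↥S), s) • ω = ω → s = 1)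
    (ha : ∀ (ω : XS n) (t : ↥S × ↥S), t • ω = ω → F.IsConjElt (t.1 : Ω) (t.2 : Ω))
    {A : Type*} [CommGroup A] (lam : ↥S →* A)
    (hlam : ∀ x : ↥S, (x : Ω) ∈ F.focalSubgroup → lam x = 1) (u : ↥S) :
    tr hfree lam u = lam u ^ Fintype.card (Yq ↥S (XS n)) := by
  classical
  have hcoc : IsCoc (fun (u : ↥S) (y : Yq ↥S (XS n)) => bc lam u y * (lam u)⁻¹) := by
    intro u u' y
    show bc lam (u * u') y * (lam (u * u'))⁻¹ =
      bc lam u (u' • y) * (lam u)⁻¹ * (bc lam u' y * (lam u')⁻¹)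
    rw [bc_isCoc hfree lam u u' y, map_mul, mul_inv, mul_mul_mul_comm]
  have hev : ∏ y : Yq ↥S (XS n), bc lam u y * (lam u)⁻¹ = 1 := by
    apply pt_eval0 hcoc u (Finset.univ : Finset (Yq ↥S (XS n))).card Finset.univ le_rfl
      (fun _ _ => Finset.mem_univ _)
    intro ω _ k _ hfix'
    have h1 := sg_stab (u ^ k) ω hfix'
    have h2 := ce_focal F (ha _ _ h1)
    have h3 : lam ((u ^ k)⁻¹ * (sg (u ^ k) ω)⁻¹) = 1 := hlam _ h2
    show (lam (sg (u ^ k) ω))⁻¹ * (lam (u ^ k))⁻¹ = 1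
    rw [map_mul, map_inv, map_inv, mul_comm] at h3
    exact h3
  rw [Finset.prod_mul_distrib, Finset.prod_const, Finset.card_univ, inv_pow,
    mul_inv_eq_one] at hev
  rw [tr_apply]
  exact hev

/-- if `S' ≤ T ≤ foc(F) ≤ Φ(S) T` then `foc(F) ≤ T` -/
theorem focal_le_of_frattini [Finite S] {p : ℕ} [Fact p.Prime] (hS : IsPGroup p S)
    (F : FusionSystem S) (hF : F.IsSaturated p) (T : Subgroup Ω)
    (hcT : ⁅(S : Subgroup Ω), (S : Subgroup Ω)⁆ ≤ T) (hTF : T ≤ F.focalSubgroup)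
    (hFT : F.focalSubgroup ≤ (frattini ↥S).map S.subtype ⊔ T) : F.focalSubgroup ≤ T := by
  classical
  have hp : p.Prime := Fact.out
  have hfS : F.focalSubgroup ≤ S := focal_le_S F
  let T' : Subgroup ↥S := T.subgroupOf S
  let lam : ↥S →* Abelianization ↥S ⧸ (T'.map Abelianization.of) :=
    (QuotientGroup.mk' _).comp Abelianization.of
  have hlamsurj : Function.Surjective lam := by
    intro b
    obtain ⟨a, rfl⟩ := QuotientGroup.mk'_surjective _ b
    obtain ⟨s, rfl⟩ := QuotientGroup.mk'_surjective (commutator ↥S) a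
    exact ⟨s, rfl⟩
  have hlamT : ∀ x : ↥S, (x : Ω) ∈ T → lam x = 1 := by
    intro x hx
    have hx' : x ∈ T' := hx
    exact (QuotientGroup.eq_one_iff _).mpr (Subgroup.mem_map_of_mem _ hx')
  have hker : ∀ x : ↥S, lam x = 1 → (x : Ω) ∈ T := by
    intro x hx
    have h1 : Abelianization.of x ∈ T'.map Abelianization.of := (QuotientGroup.eq_one_iff _).mp hx
    obtain ⟨t, ht, htx⟩ := h1
    have h2 : t⁻¹ * x ∈ commutator ↥S := by
      rw [← Abelianization.ker_of, MonoidHom.mem_ker, map_mul, map_inv, htx, inv_mul_cancel]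
    have h3 : ((t⁻¹ * x : ↥S) : Ω) ∈ ⁅(S : Subgroup Ω), (S : Subgroup Ω)⁆ := by
      rw [← Subgroup.map_subtype_commutator]
      exact ⟨_, h2, rfl⟩
    have h4 : (x : Ω) = (t : Ω) * ((t⁻¹ * x : ↥S) : Ω) := by
      rw [Subgroup.coe_mul, Subgroup.coe_inv, mul_inv_cancel_left]
    rw [h4]
    exact T.mul_mem ht (hcT h3)
  have hfrat : ∀ x : ↥S, (x : Ω) ∈ F.focalSubgroup → lam x ∈ frattini _ := by
    have hle : (frattini ↥S).map S.subtype ⊔ T ≤ ((frattini _).comap lam).map S.subtype := by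
      apply sup_le
      · exact Subgroup.map_mono (frattini_le_comap_frattini_of_surjective hlamsurj)
      · intro t ht
        have htS : t ∈ S := hfS (hTF ht)
        refine ⟨⟨t, htS⟩, ?_, rfl⟩
        show lam ⟨t, htS⟩ ∈ frattini _
        rw [hlamT ⟨t, htS⟩ ht]
        exact Subgroup.one_mem _
    intro x hx
    obtain ⟨v, hv, hvx⟩ := hle (hFT hx)
    have h2 : v = x := Subtype.ext hvx
    rw [← h2]
    exact hv
  obtain ⟨n, ha, ⟨m, hm, hpm⟩, hc, -⟩ := exists_char_biset hS F hF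
  have hfree := free_of_elt F n ha
  haveI : Fintype (Yq ↥S (XS n)) := Fintype.ofFinite _
  have hY : Fintype.card (Yq ↥S (XS n)) = m := by
    have h1 := card_eq hfree
    rw [hm, mul_comm, Nat.card_eq_fintype_card (α := Yq ↥S (XS n))] at h1
    exact (Nat.eq_of_mul_eq_mul_right Nat.card_pos h1).symm
  have hτfoc : ∀ x : ↥S, (x : Ω) ∈ F.focalSubgroup → tr hfree lam x = 1 :=
    fun x hx => tr_focal F n hfree hc lam x hx
  have hmod : ∀ u : ↥S, tr hfree lam u * (lam u ^ m)⁻¹ ∈ frattini _ := by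
    intro u
    have h1 := tr_stable_eval F n hfree ha ((QuotientGroup.mk' (frattini _)).comp lam)
      (fun x hx => (QuotientGroup.eq_one_iff _).mpr (hfrat x hx)) u
    rw [← tr_comp, hY] at h1
    apply (QuotientGroup.eq_one_iff _).mp
    show QuotientGroup.mk' (frattini _) (tr hfree lam u * (lam u ^ m)⁻¹) = 1
    rw [map_mul, map_inv, map_pow, mul_inv_eq_one]
    exact h1
  have hBp : IsPGroup p (Abelianization ↥S ⧸ (T'.map Abelianization.of)) :=
    IsPGroup.of_surjective hS lam hlamsurj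
  obtain ⟨a, hcard⟩ := IsPGroup.iff_card.mp hBp
  have hcop : (Nat.card (Abelianization ↥S ⧸ (T'.map Abelianization.of))).Coprime m := by
    rw [hcard]
    exact Nat.Coprime.pow_left a ((hp.coprime_iff_not_dvd).mpr hpm)
  have hsurj : (tr hfree lam).range = ⊤ := by
    apply frattini_nongenerating
    rw [eq_top_iff]
    intro b _
    obtain ⟨b', hb'⟩ := (powCoprime hcop).surjective b
    have hb'' : b' ^ m = b := hb'
    obtain ⟨u', rfl⟩ := hlamsurj b'
    have h1 : b = tr hfree lam u' * (tr hfree lam u' * (lam u' ^ m)⁻¹)⁻¹ := by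
      rw [mul_inv_rev, inv_inv, mul_comm (lam u' ^ m), mul_inv_cancel_left]
      exact hb''.symm
    rw [h1]
    exact Subgroup.mul_mem _ (Subgroup.mem_sup_left ⟨u', rfl⟩)
      (Subgroup.mem_sup_right (Subgroup.inv_mem _ (hmod u')))
  have hle : lam.ker ≤ (tr hfree lam).ker := by
    intro x hx
    exact hτfoc x (hTF (hker x hx))
  have hi1 : (tr hfree lam).ker.index =
      Nat.card (Abelianization ↥S ⧸ (T'.map Abelianization.of)) := by
    rw [Subgroup.index_ker, hsurj, Subgroup.card_top]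
  have hi2 : lam.ker.index = Nat.card (Abelianization ↥S ⧸ (T'.map Abelianization.of)) := by
    rw [Subgroup.index_ker, MonoidHom.range_eq_top.mpr hlamsurj, Subgroup.card_top]
  have hrel := Subgroup.relIndex_mul_index hle
  rw [hi1, hi2] at hrel
  have hpos : 0 < Nat.card (Abelianization ↥S ⧸ (T'.map Abelianization.of)) := Nat.card_pos
  have hrel1 : lam.ker.relIndex (tr hfree lam).ker = 1 := by
    have h2 : lam.ker.relIndex (tr hfree lam).ker *
        Nat.card (Abelianization ↥S ⧸ (T'.map Abelianization.of)) =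
        1 * Nat.card (Abelianization ↥S ⧸ (T'.map Abelianization.of)) := by
      rw [hrel, one_mul]
    exact Nat.eq_of_mul_eq_mul_right hpos h2
  have hle2 : (tr hfree lam).ker ≤ lam.ker := Subgroup.relIndex_eq_one.mp hrel1
  intro x hx
  have hxS : x ∈ S := hfS hx
  exact hker ⟨x, hxS⟩ (hle2 (hτfoc ⟨x, hxS⟩ hx))

end Cfsg.Agent.Lib.helper7.TateFus
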