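import Mathlib
import Cfsg.Agent.S0659
import Cfsg.Agent.Lib.helper7.ZJInnA

set_option autoImplicit false

/-! Glauberman–Thompson for a strongly closed subgroup: the constrained group case. -/

namespace Cfsg.Agent.Lib.helper7.ZJInn

open Cfsg

universe u

/-- In a finite group with `C_G(O_p(G)) ≤ O_p(G)`, `p` odd, if the normalizer of `Z(J(D))` for a
strongly closed subgroup `D` of a Sylow `p`-subgroup `P` lies in `P`, then `G = P`. -/
theorem gtd {G : Type u} [Group G] [Finite G] {p : ℕ} [Fact p.Prime] (hp : p ≠ 2)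
    (P : Sylow p G) (D : Subgroup G) (hD : Cfsg.IsStronglyClosed D (P : Subgroup G))
    (hc : Subgroup.centralizer (Cfsg.pCore p G : Set G) ≤ Cfsg.pCore p G)
    (hN : Subgroup.normalizer (Cfsg.centerThompsonAOf D : Set G) ≤ (P : Subgroup G)) :
    (P : Subgroup G) = ⊤ := by
  classical
  have hpp : p.Prime := Fact.out
  by_contra hne
  obtain ⟨M, ⟨hPM, hMP⟩, hmin⟩ := Set.exists_min_image
    {M : Subgroup G | (P : Subgroup G) ≤ M ∧ M ≠ (P : Subgroup G)} (fun M => Nat.card M)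
    (Set.toFinite _) ⟨⊤, le_top, fun h => hne h.symm⟩
  have hminP : ∀ M' : Subgroup G, (P : Subgroup G) ≤ M' → M' ≤ M →
      M' = (P : Subgroup G) ∨ M' = M := by
    intro M' h1 h2
    by_cases h3 : M' = (P : Subgroup G)
    · exact Or.inl h3
    · exact Or.inr (Subgroup.eq_of_le_of_card_ge h2 (hmin M' ⟨h1, h3⟩))
  obtain ⟨P', hP'def⟩ : ∃ P' : Sylow p ↥M, P' = P.subtype hPM := ⟨_, rfl⟩
  have hP' : ∀ y : ↥M, y ∈ (P' : Subgroup ↥M) ↔ (y : G) ∈ (P : Subgroup G) := by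
    intro y
    rw [hP'def, Sylow.coe_subtype, Subgroup.mem_subgroupOf]
  have hmaxP : ∀ M' : Subgroup ↥M, (P' : Subgroup ↥M) ≤ M' →
      M' = (P' : Subgroup ↥M) ∨ M' = ⊤ := by
    intro M' h
    have h1 : (P : Subgroup G) ≤ M'.map M.subtype := by
      intro x hx
      exact ⟨⟨x, hPM hx⟩, h ((hP' _).2 hx), rfl⟩
    have h2 : M'.map M.subtype ≤ M := by
      rintro _ ⟨y, -, rfl⟩; exact y.2
    rcases hminP _ h1 h2 with h3 | h3
    · left
      apply le_antisymm _ h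
      intro y hy
      rw [hP', ← h3]
      exact ⟨y, hy, rfl⟩
    · right
      rw [eq_top_iff]
      intro y _
      have hy : (y : G) ∈ M'.map M.subtype := by rw [h3]; exact y.2
      obtain ⟨z, hz, hzy⟩ := hy
      have e : z = y := Subtype.ext hzy
      rw [← e]; exact hz
  have hmax : ∀ (Q : Sylow p ↥M) (M' : Subgroup ↥M), (Q : Subgroup ↥M) ≤ M' →
      M' = (Q : Subgroup ↥M) ∨ M' = ⊤ := by
    intro Q M' h
    obtain ⟨g, hg⟩ := MulAction.exists_smul_eq ↥M P' Q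
    have hQ : ∀ y : ↥M, y ∈ (Q : Subgroup ↥M) ↔ g⁻¹ * y * g ∈ (P' : Subgroup ↥M) := by
      intro y
      rw [← hg]
      exact Cfsg.Agent.Lib.lead.mem_smul_sylow g y P'
    have h1 : (P' : Subgroup ↥M) ≤ M'.comap (MulAut.conj g).toMonoidHom := by
      intro x hx
      rw [Subgroup.mem_comap]
      apply h
      rw [hQ]
      have e : g⁻¹ * ((MulAut.conj g).toMonoidHom x) * g = x := by
        show g⁻¹ * (g * x * g⁻¹) * g = x
        group
      rw [e]; exact hx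
    rcases hmaxP _ h1 with h3 | h3
    · left
      apply le_antisymm _ h
      intro y hy
      rw [hQ, ← h3, Subgroup.mem_comap]
      have e : (MulAut.conj g).toMonoidHom (g⁻¹ * y * g) = y := by
        show g * (g⁻¹ * y * g) * g⁻¹ = y
        group
      rw [e]; exact hy
    · right
      rw [eq_top_iff]
      intro y _
      have h4 : g⁻¹ * y * g ∈ M'.comap (MulAut.conj g).toMonoidHom := by
        rw [h3]; exact Subgroup.mem_top _
      rw [Subgroup.mem_comap] at h4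
      have e : (MulAut.conj g).toMonoidHom (g⁻¹ * y * g) = y := by
        show g * (g⁻¹ * y * g) * g⁻¹ = y
        group
      rw [e] at h4; exact h4
  haveI hHn : (Cfsg.pCore p ↥M).Normal := Cfsg.Agent.Lib.helper26.pCore_normal p ↥M
  have hOG : Cfsg.pCore p G ≤ (P : Subgroup G) := Cfsg.Agent.Lib.helper26.pCore_le_sylow P
  have hOM : (Cfsg.pCore p G).subgroupOf M ≤ Cfsg.pCore p ↥M := by
    apply Cfsg.Agent.Lib.helper26.le_pCore
    · haveI := Cfsg.Agent.Lib.helper26.pCore_normal p G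
      infer_instance
    · exact (Cfsg.Agent.Lib.helper15.pCore_isPGroup p G).comap_subtype
  have hcM : Subgroup.centralizer (Cfsg.pCore p ↥M : Set ↥M) ≤ Cfsg.pCore p ↥M := by
    intro c hc'
    apply hOM
    rw [Subgroup.mem_subgroupOf]
    apply hc
    rw [Subgroup.mem_centralizer_iff]
    intro o ho
    have hoM : o ∈ M := hPM (hOG ho)
    have h1 := Subgroup.mem_centralizer_iff.1 hc' ⟨o, hoM⟩
      (hOM (Subgroup.mem_subgroupOf.2 ho))
    exact congrArg Subtype.val h1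
  obtain ⟨D', hD'def⟩ : ∃ D' : Subgroup ↥M, D' = D.subgroupOf M := ⟨_, rfl⟩
  have hD'mem : ∀ y : ↥M, y ∈ D' ↔ (y : G) ∈ D := by
    intro y; rw [hD'def, Subgroup.mem_subgroupOf]
  have hD' : Cfsg.IsStronglyClosed D' (P' : Subgroup ↥M) := by
    refine ⟨fun y hy => (hP' y).2 (hD.1 ((hD'mem y).1 hy)), fun x hx g hg => ?_⟩
    rw [hD'mem]
    exact hD.2 x ((hD'mem x).1 hx) g ((hP' _).1 hg)
  have hDmap : D'.map M.subtype = D := by
    ext x
    constructor
    · rintro ⟨y, hy, rfl⟩; exact (hD'mem y).1 hy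
    · intro hx
      exact ⟨⟨x, hPM (hD.1 hx)⟩, (hD'mem _).2 hx, rfl⟩
  have hzj := zj_map M.subtype D' (fun x _ hx => Subtype.ext hx)
  rw [hDmap] at hzj
  have hN' : Subgroup.normalizer (Cfsg.centerThompsonAOf D' : Set ↥M) ≤
      (P' : Subgroup ↥M) := by
    intro g hg
    rw [hP']
    apply hN
    rw [hzj, Subgroup.mem_normalizer_iff]
    intro x
    constructor
    · rintro ⟨y, hy, rfl⟩
      exact ⟨g * y * g⁻¹, (Subgroup.mem_normalizer_iff.1 hg y).1 hy, rfl⟩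
    · rintro ⟨y, hy, hyx⟩
      have hx : x = M.subtype (g⁻¹ * y * g) := by
        show x = (g : G)⁻¹ * (y : G) * (g : G)
        have h2 : (y : G) = (g : G) * x * (g : G)⁻¹ := hyx
        rw [h2]; group
      rw [hx]
      refine ⟨g⁻¹ * y * g, ?_, rfl⟩
      apply (Subgroup.mem_normalizer_iff.1 hg _).2
      have e : g * (g⁻¹ * y * g) * g⁻¹ = y := by group
      rw [e]; exact hy
  have hHp : IsPGroup p ↥(Cfsg.pCore p ↥M) := Cfsg.Agent.Lib.helper15.pCore_isPGroup p ↥M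
  have hsurj := QuotientGroup.mk'_surjective (Cfsg.pCore p ↥M)
  obtain ⟨Pb, hPbdef⟩ : ∃ Pb : Sylow p (↥M ⧸ Cfsg.pCore p ↥M),
      Pb = P'.mapSurjective hsurj := ⟨_, rfl⟩
  have hPb : (Pb : Subgroup (↥M ⧸ Cfsg.pCore p ↥M)) =
      (P' : Subgroup ↥M).map (QuotientGroup.mk' (Cfsg.pCore p ↥M)) := by
    rw [hPbdef, Sylow.coe_mapSurjective]
  have hq : Cfsg.HasNormalPComplement p (↥M ⧸ Cfsg.pCore p ↥M) := by
    apply Cfsg.Agent.S0659.result hp Pb
    obtain ⟨Nb, hNb⟩ : ∃ Nb : Subgroup (↥M ⧸ Cfsg.pCore p ↥M),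
        Nb = Subgroup.normalizer (Cfsg.centerThompsonAOf
          (Pb : Subgroup (↥M ⧸ Cfsg.pCore p ↥M)) : Set (↥M ⧸ Cfsg.pCore p ↥M)) := ⟨_, rfl⟩
    rw [← hNb]
    have hPbN : (Pb : Subgroup (↥M ⧸ Cfsg.pCore p ↥M)) ≤ Nb := by
      rw [hNb]
      intro x hx
      exact zj_normalizer _ x (Subgroup.le_normalizer hx)
    have h1 : (P' : Subgroup ↥M) ≤ Nb.comap (QuotientGroup.mk' (Cfsg.pCore p ↥M)) := by
      intro x hx
      rw [Subgroup.mem_comap]
      apply hPbN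
      rw [hPb]
      exact ⟨x, hx, rfl⟩
    have hNbmap : (Nb.comap (QuotientGroup.mk' (Cfsg.pCore p ↥M))).map
        (QuotientGroup.mk' (Cfsg.pCore p ↥M)) = Nb :=
      Subgroup.map_comap_eq_self_of_surjective hsurj Nb
    rcases hmax P' _ h1 with h3 | h3
    · have hNbP : Nb = (Pb : Subgroup (↥M ⧸ Cfsg.pCore p ↥M)) := by
        rw [← hNbmap, h3, hPb]
      rw [hNbP]
      exact Cfsg.Agent.Lib.helper14.hasNPC_of_isPGroup Pb.isPGroup'
    · have hNbtop : Nb = ⊤ := by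
        rw [← hNbmap, h3, Subgroup.map_top_of_surjective _ hsurj]
      have hZn : (Cfsg.centerThompsonAOf (Pb : Subgroup (↥M ⧸ Cfsg.pCore p ↥M))).Normal :=
        Subgroup.normalizer_eq_top_iff.mp (by rw [← hNb]; exact hNbtop)
      have hZle : Cfsg.centerThompsonAOf (Pb : Subgroup (↥M ⧸ Cfsg.pCore p ↥M)) ≤
          (Pb : Subgroup (↥M ⧸ Cfsg.pCore p ↥M)) := Cfsg.Agent.S0659.zjA_le _
      have hRp : IsPGroup p ↥((Cfsg.centerThompsonAOf
          (Pb : Subgroup (↥M ⧸ Cfsg.pCore p ↥M))).comap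
          (QuotientGroup.mk' (Cfsg.pCore p ↥M))) := by
        apply IsPGroup.comap_of_ker_isPGroup (Pb.isPGroup'.to_le hZle)
        rw [QuotientGroup.ker_mk']; exact hHp
      have hRle := Cfsg.Agent.Lib.helper26.le_pCore
        (hZn.comap (QuotientGroup.mk' (Cfsg.pCore p ↥M))) hRp
      have hZbot : Cfsg.centerThompsonAOf (Pb : Subgroup (↥M ⧸ Cfsg.pCore p ↥M)) = ⊥ := by
        rw [eq_bot_iff]
        intro z hz
        obtain ⟨y, rfl⟩ := hsurj z
        have hy : y ∈ Cfsg.pCore p ↥M := hRle (Subgroup.mem_comap.2 hz)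
        rw [Subgroup.mem_bot]
        exact (QuotientGroup.eq_one_iff y).2 hy
      have hPbbot : (Pb : Subgroup (↥M ⧸ Cfsg.pCore p ↥M)) = ⊥ := by
        by_contra hPb1
        exact Cfsg.Agent.S0659.zjA_ne_bot _ Pb.isPGroup' hPb1 hZbot
      apply Cfsg.Agent.Lib.helper14.hasNPC_of_coprime
      have h5 := Pb.not_dvd_index
      rw [hPbbot, Subgroup.index_bot] at h5
      rw [hNbtop, Subgroup.card_top]
      exact ((Nat.Prime.coprime_iff_not_dvd hpp).2 h5).symm
  rw [Cfsg.Agent.S0072.hasNormalPComplement_iff] at hq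
  obtain ⟨Kb, hKn, hKc, j, hKi⟩ := hq
  have hmaxb := Cfsg.Agent.S0659.sylow_max_quot hmax
  have hKab := Cfsg.Agent.S0659.kb_comm hmaxb Kb hKn hKc j hKi
  have hst : ∀ (V : Subgroup ↥M) [V.Normal], IsPGroup p V → Cfsg.IsPStableOn p V :=
    fun V _ hV => Cfsg.Agent.S0659.pstable hp hmax Kb hKn hKc j hKi hKab V hV
  have hst' := Cfsg.Agent.Lib.helper15.zstab_of_pStableOn hst
  have hn := Cfsg.Agent.Lib.helper15.zj_inf_normal hp P' D' hD' _
    Cfsg.Agent.Lib.helper15.zjgood_ab hst' hcM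
  rw [← Cfsg.Agent.Lib.helper15.centerThompsonAOf_eq D'] at hn
  have htop : Subgroup.normalizer (Cfsg.centerThompsonAOf D' : Set ↥M) = ⊤ :=
    Subgroup.normalizer_eq_top_iff.mpr hn
  rw [htop] at hN'
  apply hMP
  apply le_antisymm _ hPM
  intro x hx
  exact (hP' ⟨x, hx⟩).1 (hN' (Subgroup.mem_top _))

end Cfsg.Agent.Lib.helper7.ZJInn
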