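import Mathlib
import Cfsg.Agent.Lib.helper7.ZJD1
import Cfsg.Agent.Lib.helper7.ZJInnB
import Cfsg.Agent.Lib.helper7.Fitting

set_option autoImplicit false

/-! The Glauberman–Thompson criterion for fusion systems relative to a strongly closed subgroup
(`p` odd): the induction. -/

namespace Cfsg.Agent.Lib.helper7.ZJInn

open Cfsg Cfsg.FusionSystem Cfsg.Agent.Lib.helper25

universe u

variable {Ω : Type u} [Group Ω] {S : Subgroup Ω}

theorem sc_mem_normalizer [Finite S] (F : FusionSystem S) {D : Subgroup Ω}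
    (hD : F.StronglyClosed D) {x : Ω} (hx : x ∈ S) : x ∈ Subgroup.normalizer (D : Set Ω) := by
  haveI : Finite ↥D := Cfsg.Agent.Lib.helper26.finite_of_le hD.1
  exact Cfsg.Agent.Lib.helper7.Model.mem_normalizer_of_conj_le D x
    (fun y hy => Cfsg.Agent.Lib.helper26.stronglyClosed_conj_mem F hD hx hy)

theorem sc_zj_normalizer [Finite S] (F : FusionSystem S) {D : Subgroup Ω}
    (hD : F.StronglyClosed D) {x : Ω} (hx : x ∈ S) :
    x ∈ Subgroup.normalizer ((Cfsg.centerThompsonAOf D : Subgroup Ω) : Set Ω) :=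
  zj_normalizer D x (sc_mem_normalizer F hD hx)

theorem sc_inf_zj_normalizer [Finite S] (F : FusionSystem S) {D : Subgroup Ω}
    (hD : F.StronglyClosed D) {T : Subgroup Ω} (hTS : T ≤ S) {x : Ω} (hx : x ∈ S)
    (hxT : x ∈ Subgroup.normalizer (T : Set Ω)) :
    x ∈ Subgroup.normalizer ((Cfsg.centerThompsonAOf (D ⊓ T) : Subgroup Ω) : Set Ω) := by
  haveI : Finite ↥(D ⊓ T) := Cfsg.Agent.Lib.helper26.finite_of_le (inf_le_right.trans hTS)
  apply zj_normalizer (D ⊓ T) x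
  apply Cfsg.Agent.Lib.helper7.Model.mem_normalizer_of_conj_le (D ⊓ T) x
  intro y hy
  exact ⟨Cfsg.Agent.Lib.helper26.stronglyClosed_conj_mem F hD hx hy.1,
    (Subgroup.mem_normalizer_iff.mp hxT y).mp hy.2⟩

/-- the induction hypothesis -/
def BelowD (p : ℕ) [Fact p.Prime] (F : FusionSystem S) : Prop :=
  ∀ {Ω' : Type u} [Group Ω'] (S' : Subgroup Ω') [Finite S'], IsPGroup p S' →
    ∀ (F' : FusionSystem S') (D' : Subgroup Ω'), F'.IsSaturated p → F'.StronglyClosed D' →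
      NInn F' (Cfsg.centerThompsonAOf D') →
      (Nat.card S' < Nat.card S ∨
        (Nat.card S' ≤ Nat.card S ∧ Nat.card ↥F.core < Nat.card ↥F'.core)) →
      Inn F'

theorem nf_innerD [Finite S] {p : ℕ} [Fact p.Prime] (hS : IsPGroup p S) (F : FusionSystem S)
    (hF : F.IsSaturated p) {D : Subgroup Ω} (hD : F.StronglyClosed D) (hIH : BelowD p F)
    {U : Subgroup Ω} (hU : F.IsFullyNormalized U)
    (hlt : Nat.card ↥F.core < Nat.card ↥U)
    (hch : NInn F (Cfsg.centerThompsonAOf (D ⊓ normalizerIn S U))) : NInn F U := by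
  classical
  have hUS : U ≤ S := hU.1
  haveI : Finite ↥U := Cfsg.Agent.Lib.helper26.finite_of_le hUS
  have hTS : normalizerIn S U ≤ S := inf_le_left
  have hUT : U ≤ normalizerIn S U := le_normalizerIn_self hUS
  have hpT : IsPGroup p ↥(normalizerIn S U) := hS.to_le hTS
  have hNR := isNormalizerSystem_normalizerSystem F U hUS
  have hsat := normalizerSystem_saturated hS F hF U hU _ hNR
  have hn := isNormal_of_isNormalizerSystem F hUS _ hNR
  have hTN : normalizerIn S U ≤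
      normalizerIn S (Cfsg.centerThompsonAOf (D ⊓ normalizerIn S U)) := fun x hx =>
    ⟨hTS hx, sc_inf_zj_normalizer F hD hTS (hTS hx) (Subgroup.le_normalizer hx)⟩
  have hDN : (normalizerSystem F U hUS).StronglyClosed (D ⊓ normalizerIn S U) :=
    ⟨inf_le_right, fun R hR φ hφ x =>
      ⟨hD.2 R (hR.trans inf_le_left) φ hφ.1 x, hφ.2.2.1 x⟩⟩
  have hNI : NInn (normalizerSystem F U hUS)
      (Cfsg.centerThompsonAOf (D ⊓ normalizerIn S U)) := by
    intro X β hβ hZX hXN hinto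
    obtain ⟨hβF, hXT, hβT, β₁, hβ₁, hagree, hmap⟩ := hβ
    have hle : Cfsg.centerThompsonAOf (D ⊓ normalizerIn S U) ≤ X ⊔ U :=
      hZX.trans le_sup_left
    have hXU : X ⊔ U ≤ normalizerIn S U := sup_le hXT hUT
    obtain ⟨s, hsS, hsx⟩ := hch (X ⊔ U) β₁ hβ₁ hle (hXU.trans hTN) (by
      intro w hw
      have e : (⟨w, hle hw⟩ : ↥(X ⊔ U)) = Subgroup.inclusion le_sup_left ⟨w, hZX hw⟩ := rfl
      rw [e, hagree]
      exact hinto w hw)
    have hsN : s ∈ Subgroup.normalizer (U : Set Ω) := by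
      apply Cfsg.Agent.Lib.helper7.Model.mem_normalizer_of_conj_le U s
      intro u hu
      have h1 : β₁ ⟨u, (le_sup_right : U ≤ X ⊔ U) hu⟩ ∈ (U.subgroupOf (X ⊔ U)).map β₁ :=
        (mem_map_subgroupOf β₁).2 ⟨_, hu, rfl⟩
      rw [hmap] at h1
      have h2 := hsx ⟨u, (le_sup_right : U ≤ X ⊔ U) hu⟩
      rw [h2] at h1
      exact h1
    refine ⟨s, ⟨hsS, hsN⟩, fun x => ?_⟩
    rw [← hagree x]
    exact hsx _
  have hcore : U ≤ (normalizerSystem F U hUS).core := le_sSup hn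
  have hcN : (normalizerSystem F U hUS).core ≤ normalizerIn S U := (isNormal_core _).1
  haveI : Finite ↥((normalizerSystem F U hUS).core) :=
    Cfsg.Agent.Lib.helper26.finite_of_le (hcN.trans hTS)
  have hcard : Nat.card ↥U ≤ Nat.card ↥((normalizerSystem F U hUS).core) :=
    Subgroup.card_le_of_le hcore
  have hinn : Inn (normalizerSystem F U hUS) :=
    hIH (normalizerIn S U) hpT _ _ hsat hDN hNI
      (Or.inr ⟨Subgroup.card_le_of_le hTS, by omega⟩)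
  intro X δ hδ hUX hXN hinto
  have hδN := mem_normalizerSystem_of_into F hUS hδ hUX hXN hinto
  obtain ⟨t, ht, htx⟩ := hinn X δ hδN
  exact ⟨t, hTS ht, htx⟩

theorem inn_of_core_botD [Finite S] {p : ℕ} [Fact p.Prime] (hS : IsPGroup p S)
    (F : FusionSystem S) (hF : F.IsSaturated p) {D : Subgroup Ω} (hD : F.StronglyClosed D)
    (hD1 : D ≠ ⊥) (hIH : BelowD p F)
    (hI : NInn F (Cfsg.centerThompsonAOf D)) (hcore : F.core = ⊥) : Inn F := by
  classical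
  have hc1 : Nat.card ↥F.core = 1 := by rw [hcore, Subgroup.card_bot]
  have hDS : D ≤ S := hD.1
  obtain ⟨z, hzD, hz1, hzc⟩ : ∃ z ∈ D, z ≠ 1 ∧ ∀ s ∈ S, s * z = z * s := by
    haveI : Group.IsNilpotent ↥S := hS.isNilpotent
    haveI := normal_subgroupOf_of_stronglyClosed F hD
    have hne : D.subgroupOf S ≠ ⊥ := by
      intro h
      apply hD1
      rw [eq_bot_iff]
      intro x hx
      have h2 : (⟨x, hDS hx⟩ : S) ∈ D.subgroupOf S := Subgroup.mem_subgroupOf.2 hx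
      rw [h, Subgroup.mem_bot] at h2
      exact Subgroup.mem_bot.2 (congrArg Subtype.val h2)
    have h := Cfsg.Agent.Lib.helper7.nilpotent_normal_inf_center_ne_bot (D.subgroupOf S) hne
    obtain ⟨z, hz, hz1⟩ : ∃ z ∈ D.subgroupOf S ⊓ Subgroup.center ↥S, z ≠ 1 := by
      by_contra hcon
      push Not at hcon
      exact h ((Subgroup.eq_bot_iff_forall _).2 hcon)
    refine ⟨(z : Ω), Subgroup.mem_subgroupOf.1 hz.1, fun h => hz1 (Subtype.ext h),
      fun s hs => ?_⟩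
    exact congrArg Subtype.val (Subgroup.mem_center_iff.1 hz.2 ⟨s, hs⟩)
  have Dj : ∀ (j : ℕ) (U : Subgroup Ω), F.IsFullyNormalized U → U ≠ ⊥ →
      Nat.card S - Nat.card ↥(normalizerIn S U) = j → NInn F U := by
    intro j
    induction j using Nat.strong_induction_on with
    | _ j IHj =>
    intro U hU hU1 hj
    have hUS : U ≤ S := hU.1
    haveI : Finite ↥U := Cfsg.Agent.Lib.helper26.finite_of_le hUS
    have hTS : normalizerIn S U ≤ S := inf_le_left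
    have hUT : U ≤ normalizerIn S U := le_normalizerIn_self hUS
    have hcardT : Nat.card ↥(normalizerIn S U) ≤ Nat.card S := Subgroup.card_le_of_le hTS
    have hUcard : 1 < Nat.card ↥U := (Subgroup.one_lt_card_iff_ne_bot U).2 hU1
    apply nf_innerD hS F hF hD hIH hU (by omega)
    by_cases hTeq : normalizerIn S U = S
    · rw [hTeq, inf_eq_left.2 hDS]; exact hI
    have star : ∀ (X : Subgroup Ω) (ψ : X →* Ω), ψ ∈ F.Hom X →
        Nat.card ↥(normalizerIn S U) < Nat.card X →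
        ∃ s ∈ S, ∀ x : X, ψ x = s * x * s⁻¹ := by
      apply Cfsg.Agent.Lib.helper26.alperin_induction hS F hF
        (fun X ψ => Nat.card ↥(normalizerIn S U) < Nat.card X →
          ∃ s ∈ S, ∀ x : X, ψ x = s * x * s⁻¹)
      · intro A B φ h hφ hPr hcard
        haveI : Finite B := Cfsg.Agent.Lib.helper26.finite_of_le (F.le_of_mem hφ).1
        obtain ⟨s, hs, hsx⟩ := hPr (hcard.trans_le (Subgroup.card_le_of_le h))
        exact ⟨s, hs, fun x => hsx (Subgroup.inclusion h x)⟩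
      · intro A B φ ψ' hval hφ hψ' hPrφ hPrψ hcard
        haveI : Finite B := Cfsg.Agent.Lib.helper26.finite_of_le (F.le_of_mem hψ').1
        obtain ⟨s, hs, hsx⟩ := hPrφ hcard
        have hinj : Function.Injective (φ.codRestrict B hval) := by
          intro a b hab
          exact F.injective_of_mem hφ (congrArg Subtype.val hab)
        have hcard' : Nat.card ↥(normalizerIn S U) < Nat.card B :=
          hcard.trans_le (Nat.card_le_card_of_injective _ hinj)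
        obtain ⟨t, ht, htx⟩ := hPrψ hcard'
        refine ⟨t * s, S.mul_mem ht hs, fun x => ?_⟩
        have h1 := htx ((φ.codRestrict B hval) x)
        have h2 : ((φ.codRestrict B hval) x : Ω) = s * x * s⁻¹ := hsx x
        rw [h2] at h1
        show ψ' ((φ.codRestrict B hval) x) = _
        rw [h1]; group
      · intro A hA _ α hα hcard
        have hAS : A ≤ S := hA.1
        haveI : Finite ↥A := Cfsg.Agent.Lib.helper26.finite_of_le hAS
        have hA1 : A ≠ ⊥ := by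
          intro h
          rw [h, Subgroup.card_bot] at hcard
          have := Nat.card_pos (α := ↥(normalizerIn S U))
          omega
        have hAN : A ≤ normalizerIn S A := le_normalizerIn_self hAS
        have hc2 : Nat.card ↥A ≤ Nat.card ↥(normalizerIn S A) := Subgroup.card_le_of_le hAN
        have hc3 : Nat.card ↥(normalizerIn S A) ≤ Nat.card S :=
          Subgroup.card_le_of_le inf_le_left
        have hNA := IHj (Nat.card S - Nat.card ↥(normalizerIn S A)) (by omega) A hA hA1 rfl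
        exact hNA A _ hα le_rfl hAN (fun w hw => (α ⟨w, hw⟩).2)
    obtain ⟨W₁, hW₁⟩ : ∃ W₁ : Subgroup Ω,
        W₁ = Cfsg.centerThompsonAOf (D ⊓ normalizerIn S U) := ⟨_, rfl⟩
    rw [← hW₁]
    have hDTS : D ⊓ normalizerIn S U ≤ S := inf_le_right.trans hTS
    haveI : Finite ↥(D ⊓ normalizerIn S U) := Cfsg.Agent.Lib.helper26.finite_of_le hDTS
    have hpT : IsPGroup p ↥(D ⊓ normalizerIn S U) := hS.to_le hDTS
    have hT1 : D ⊓ normalizerIn S U ≠ ⊥ := by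
      intro h
      apply hz1
      have hzT : z ∈ D ⊓ normalizerIn S U := by
        refine ⟨hzD, hDS hzD, ?_⟩
        apply Cfsg.Agent.Lib.helper7.Model.mem_normalizer_of_conj_le U z
        intro u hu
        have h3 := hzc u (hUS hu)
        have e : z * u * z⁻¹ = u := by rw [← h3]; group
        rw [e]; exact hu
      rw [h, Subgroup.mem_bot] at hzT
      exact hzT
    have hW₁T : W₁ ≤ normalizerIn S U := by
      rw [hW₁]; exact (Cfsg.Agent.S0659.zjA_le _).trans inf_le_right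
    have hW₁S : W₁ ≤ S := hW₁T.trans hTS
    have hW₁ne : W₁ ≠ ⊥ := by rw [hW₁]; exact zj_ne_bot _ hpT hT1
    have hTN₁ : normalizerIn S U ≤ normalizerIn S W₁ := by
      intro x hx
      refine ⟨hTS hx, ?_⟩
      rw [hW₁]; exact sc_inf_zj_normalizer F hD hTS (hTS hx) (Subgroup.le_normalizer hx)
    have hlt : Nat.card ↥(normalizerIn S U) < Nat.card ↥(normalizerIn S W₁) := by
      obtain ⟨g, hgN, hgR⟩ :=
        Cfsg.Agent.Lib.helper26.exists_normalizerIn_not_mem hS hTS hTeq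
      have hgN₁ : g ∈ normalizerIn S W₁ := by
        refine ⟨hgN.1, ?_⟩
        rw [hW₁]
        exact sc_inf_zj_normalizer F hD hTS hgN.1 hgN.2
      by_contra hcon
      push Not at hcon
      have heq := Subgroup.eq_of_le_of_card_ge hTN₁ hcon
      apply hgR
      rw [heq]
      exact hgN₁
    obtain ⟨U', hconj, hU'fn, -, -, ψ, hψ, e, -, he⟩ :=
      Cfsg.Agent.Lib.helper26.exists_fullyNormalized_conj hS F hF hW₁S
    obtain ⟨a, haS, hax⟩ := star _ ψ hψ hlt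
    have hU'S : U' ≤ S := hU'fn.1
    haveI : Finite U' := Cfsg.Agent.Lib.helper26.finite_of_le hU'S
    haveI : Finite W₁ := Cfsg.Agent.Lib.helper26.finite_of_le hW₁S
    have hU'1 : U' ≠ ⊥ := by
      intro h
      apply hW₁ne
      apply Subgroup.eq_bot_of_card_eq
      rw [Nat.card_congr e.toEquiv, h, Subgroup.card_bot]
    have hcard1 : Nat.card ↥(normalizerIn S W₁) ≤ Nat.card ↥(normalizerIn S U') :=
      hU'fn.2 W₁ (Cfsg.Agent.Lib.helper26.isConj_symm F hconj)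
    have hcard3 : Nat.card ↥(normalizerIn S U') ≤ Nat.card S :=
      Subgroup.card_le_of_le inf_le_left
    have hNU' : NInn F U' :=
      IHj (Nat.card S - Nat.card ↥(normalizerIn S U')) (by omega) U' hU'fn hU'1 rfl
    have hW₁N₁ : W₁ ≤ normalizerIn S W₁ := le_normalizerIn_self hW₁S
    have hψe : ∀ (w : Ω) (hw : w ∈ W₁), a * w * a⁻¹ = (e ⟨w, hw⟩ : Ω) := fun w hw => by
      rw [← he ⟨w, hw⟩ (hW₁N₁ hw)]
      exact (hax ⟨w, hW₁N₁ hw⟩).symm
    have haU : ∀ w ∈ W₁, a * w * a⁻¹ ∈ U' := fun w hw => by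
      rw [hψe w hw]; exact (e _).2
    have hUa : ∀ u ∈ U', ∃ w ∈ W₁, a * w * a⁻¹ = u := by
      intro u hu
      refine ⟨(e.symm ⟨u, hu⟩ : W₁), (e.symm ⟨u, hu⟩).2, ?_⟩
      rw [hψe _ (e.symm ⟨u, hu⟩).2]
      exact congrArg Subtype.val (e.apply_symm_apply ⟨u, hu⟩)
    intro Y δ hδ hWY hYN hinto
    have hYS : Y ≤ S := (F.le_of_mem hδ).1
    have hδS := (F.le_of_mem hδ).2
    obtain ⟨Y', hY'⟩ : ∃ Y' : Subgroup Ω, Y' = Y.map (MulAut.conj a).toMonoidHom := ⟨_, rfl⟩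
    have hY'mem : ∀ y ∈ Y, a * y * a⁻¹ ∈ Y' := fun y hy => by rw [hY']; exact ⟨y, hy, rfl⟩
    have hY'S : Y' ≤ S := by
      rw [hY']
      rintro _ ⟨y, hy, rfl⟩
      exact S.mul_mem (S.mul_mem haS (hYS hy)) (S.inv_mem haS)
    have hY'elim : ∀ z ∈ Y', ∃ y ∈ Y, a * y * a⁻¹ = z := by
      intro z hz
      rw [hY'] at hz
      obtain ⟨y, hy, rfl⟩ := hz
      exact ⟨y, hy, rfl⟩
    have hY'Y : ∀ y' : Y', a⁻¹ * (y' : Ω) * a⁻¹⁻¹ ∈ Y := by
      intro y'
      obtain ⟨y, hy, hyy⟩ := hY'elim _ y'.2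
      have e1 : a⁻¹ * (y' : Ω) * a⁻¹⁻¹ = y := by
        rw [← hyy]
        group
      rw [e1]; exact hy
    have hc₁ : Cfsg.conjHom Y' a⁻¹ ∈ F.Hom Y' := F.conj_mem hY'S (S.inv_mem haS)
    have hc₁Y : ∀ y' : Y', Cfsg.conjHom Y' a⁻¹ y' ∈ Y := fun y' => hY'Y y'
    have hd₁ := F.comp_mem hc₁ hδ hc₁Y
    have hd₁S : ∀ y' : Y', (δ.comp ((Cfsg.conjHom Y' a⁻¹).codRestrict Y hc₁Y)) y' ∈ S :=
      fun y' => hδS _
    have hc₂ : Cfsg.conjHom S a ∈ F.Hom S := F.conj_mem le_rfl haS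
    have hd₂ := F.comp_mem hd₁ hc₂ hd₁S
    obtain ⟨δ', hδ'def⟩ : ∃ δ' : Y' →* Ω, δ' = (Cfsg.conjHom S a).comp
        ((δ.comp ((Cfsg.conjHom Y' a⁻¹).codRestrict Y hc₁Y)).codRestrict S hd₁S) := ⟨_, rfl⟩
    have hδ' : δ' ∈ F.Hom Y' := by rw [hδ'def]; exact hd₂
    have hδ'app : ∀ (y' : Y') (y : Y), a⁻¹ * (y' : Ω) * a⁻¹⁻¹ = y →
        δ' y' = a * δ y * a⁻¹ := by
      intro y' y hy
      have e1 : (⟨a⁻¹ * (y' : Ω) * a⁻¹⁻¹, hY'Y y'⟩ : Y) = y := Subtype.ext hy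
      rw [hδ'def, ← e1]
      rfl
    have hU'Y' : U' ≤ Y' := by
      intro u hu
      obtain ⟨w, hw, rfl⟩ := hUa u hu
      exact hY'mem w (hWY hw)
    have hY'N : Y' ≤ normalizerIn S U' := by
      intro y' hy'
      refine ⟨hY'S hy', ?_⟩
      obtain ⟨y, hy, rfl⟩ := hY'elim _ hy'
      apply Cfsg.Agent.Lib.helper7.Model.mem_normalizer_of_conj_le U' _
      intro u hu
      obtain ⟨w, hw, rfl⟩ := hUa u hu
      have hc : y * w * y⁻¹ ∈ W₁ := (Subgroup.mem_normalizer_iff.mp (hYN hy).2 w).mp hw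
      have e1 : a * y * a⁻¹ * (a * w * a⁻¹) * (a * y * a⁻¹)⁻¹ = a * (y * w * y⁻¹) * a⁻¹ := by
        group
      rw [e1]
      exact haU _ hc
    obtain ⟨b, hbS, hbx⟩ := hNU' Y' δ' hδ' hU'Y' hY'N (by
      intro u hu
      obtain ⟨w, hw, hwu⟩ := hUa u hu
      rw [hδ'app ⟨u, hU'Y' hu⟩ ⟨w, hWY hw⟩ (by
        show a⁻¹ * u * a⁻¹⁻¹ = w
        rw [← hwu]; group)]
      exact haU _ (hinto w hw))
    refine ⟨a⁻¹ * b * a, S.mul_mem (S.mul_mem (S.inv_mem haS) hbS) haS, fun y => ?_⟩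
    have h1 := hbx ⟨a * y * a⁻¹, hY'mem y y.2⟩
    rw [hδ'app ⟨a * y * a⁻¹, hY'mem y y.2⟩ y (by
      show a⁻¹ * (a * (y : Ω) * a⁻¹) * a⁻¹⁻¹ = y
      group)] at h1
    have h1' : a * δ y * a⁻¹ = b * (a * (y : Ω) * a⁻¹) * b⁻¹ := h1
    calc δ y = a⁻¹ * (a * δ y * a⁻¹) * a := by group
      _ = a⁻¹ * (b * (a * (y : Ω) * a⁻¹) * b⁻¹) * a := by rw [h1']
      _ = a⁻¹ * b * a * y * (a⁻¹ * b * a)⁻¹ := by group
  apply Cfsg.Agent.Lib.helper26.alperin_induction hS F hF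
    (fun X ψ => ∃ s ∈ S, ∀ x : X, ψ x = s * x * s⁻¹)
  · intro A B φ h hφ hPr
    obtain ⟨s, hs, hsx⟩ := hPr
    exact ⟨s, hs, fun x => hsx (Subgroup.inclusion h x)⟩
  · intro A B φ ψ' hval hφ hψ' hPrφ hPrψ
    obtain ⟨s, hs, hsx⟩ := hPrφ
    obtain ⟨t, ht, htx⟩ := hPrψ
    refine ⟨t * s, S.mul_mem ht hs, fun x => ?_⟩
    have h1 := htx ((φ.codRestrict B hval) x)
    have h2 : ((φ.codRestrict B hval) x : Ω) = s * x * s⁻¹ := hsx x
    rw [h2] at h1
    show ψ' ((φ.codRestrict B hval) x) = _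
    rw [h1]; group
  · intro A hA _ α hα
    have hAS : A ≤ S := hA.1
    by_cases hA1 : A = ⊥
    · subst hA1
      refine ⟨1, S.one_mem, fun x => ?_⟩
      show ((α x : ↥(⊥ : Subgroup Ω)) : Ω) = 1 * (x : Ω) * 1⁻¹
      rw [Subgroup.mem_bot.1 (α x).2, Subgroup.mem_bot.1 x.2]
      group
    · have hAN : A ≤ normalizerIn S A := le_normalizerIn_self hAS
      exact Dj _ A hA hA1 rfl A _ hα le_rfl hAN (fun w hw => (α ⟨w, hw⟩).2)

theorem centralizer_le_coreD [Finite S] {p : ℕ} [Fact p.Prime] (hS : IsPGroup p S)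
    (F : FusionSystem S) (hF : F.IsSaturated p) {D : Subgroup Ω} (hD : F.StronglyClosed D)
    (hIH : BelowD p F)
    (hI : NInn F (Cfsg.centerThompsonAOf D)) (hO1 : F.core ≠ ⊥) (hDO : ¬ D ≤ F.core) :
    centralizerIn S F.core ≤ F.core := by
  classical
  have hDS : D ≤ S := hD.1
  obtain ⟨O, hOdef⟩ : ∃ O : Subgroup Ω, O = F.core := ⟨_, rfl⟩
  rw [← hOdef]
  rw [← hOdef] at hDO
  have hOn : F.IsNormal O := by rw [hOdef]; exact isNormal_core F
  have hOle : O ≤ S := hOn.1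
  haveI : Finite ↥O := Cfsg.Agent.Lib.helper26.finite_of_le hOle
  have hOsc : F.StronglyClosed O := stronglyClosed_of_isNormal F hOn
  haveI hnorm : (O.subgroupOf S).Normal := normal_subgroupOf_of_stronglyClosed F hOsc
  obtain ⟨θ, hθdef⟩ : ∃ θ : S →* S ⧸ O.subgroupOf S,
      θ = QuotientGroup.mk' (O.subgroupOf S) := ⟨_, rfl⟩
  have hker : ∀ s : S, θ s = 1 ↔ (s : Ω) ∈ O := by
    rw [hθdef]; exact mk'_eq_one_iff (S := S) O
  have hrange : θ.range = ⊤ := by rw [hθdef]; exact mk'_range (S := S) O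
  have hθsurj : Function.Surjective θ := by
    rw [hθdef]; exact QuotientGroup.mk'_surjective _
  obtain ⟨E, hEdef⟩ : ∃ E : FusionSystem (⊤ : Subgroup (S ⧸ O.subgroupOf S)),
      E = factorSystem F O hOsc θ hker hrange := ⟨_, rfl⟩
  have hE : F.IsFactorSystem O θ E := by
    rw [hEdef]; exact isFactorSystem_factorSystem F O hOsc θ hker hrange
  have hEsat : E.IsSaturated p := saturated_of_isFactorSystem hS F hF hOsc θ E hE
  have hpQ : IsPGroup p (S ⧸ O.subgroupOf S) := hS.to_quotient (O.subgroupOf S)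
  have hpE : IsPGroup p ↥(⊤ : Subgroup (S ⧸ O.subgroupOf S)) := hpQ.to_subgroup ⊤
  have hcardlt : Nat.card ↥(⊤ : Subgroup (S ⧸ O.subgroupOf S)) < Nat.card S := by
    rw [Subgroup.card_top]
    have h1 := Subgroup.card_eq_card_quotient_mul_card_subgroup (O.subgroupOf S)
    have h2 : Nat.card ↥(O.subgroupOf S) = Nat.card ↥O :=
      Nat.card_congr (Subgroup.subgroupOfEquivOfLe hOle).toEquiv
    have h3 : 1 < Nat.card ↥O :=
      (Subgroup.one_lt_card_iff_ne_bot O).2 (by rw [hOdef]; exact hO1)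
    have h4 : 0 < Nat.card (S ⧸ O.subgroupOf S) := Nat.card_pos
    rw [h1, h2]
    nlinarith
  obtain ⟨Db, hDbdef⟩ : ∃ Db : Subgroup (S ⧸ O.subgroupOf S),
      Db = (D.subgroupOf S).map θ := ⟨_, rfl⟩
  have hDbmem : ∀ z, z ∈ Db ↔ ∃ d : S, (d : Ω) ∈ D ∧ θ d = z := by
    intro z
    rw [hDbdef]
    constructor
    · rintro ⟨d, hd, rfl⟩
      exact ⟨d, Subgroup.mem_subgroupOf.1 hd, rfl⟩
    · rintro ⟨d, hd, rfl⟩
      exact ⟨d, Subgroup.mem_subgroupOf.2 hd, rfl⟩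
  have hDbn : Db.Normal := by
    rw [hDbdef]
    exact (normal_subgroupOf_of_stronglyClosed F hD).map θ hθsurj
  have hDbE : E.StronglyClosed Db := by
    refine ⟨le_top, fun R' hR' φ' hφ' x => ?_⟩
    obtain ⟨-, φ, hφ, hPS, hφS, hP'x, hind⟩ := (hE.2.2.2 R' φ').1 hφ'
    obtain ⟨d, hdD, hdx⟩ := (hDbmem _).1 (hR' x.2)
    have hdP : (d : Ω) ∈ preimageAlong θ R' :=
      mem_preimageAlong.2 ⟨d.2, by rw [hdx]; exact x.2⟩
    have h1 := hind ⟨d, hdP⟩
    have h1' : φ' x = θ ⟨φ ⟨d, hdP⟩, hφS _⟩ := by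
      have e1 : x = ⟨θ ⟨((⟨d, hdP⟩ : ↥(preimageAlong θ R')) : Ω), hPS hdP⟩,
          hP'x ⟨d, hdP⟩⟩ := Subtype.ext hdx.symm
      rw [e1]; exact h1
    rw [h1', hDbmem]
    have hφ₀ := hom_restrict F (inf_le_right : D ⊓ preimageAlong θ R' ≤ preimageAlong θ R') hφ
    have h2 := hD.2 (D ⊓ preimageAlong θ R') inf_le_left _ hφ₀ ⟨d, hdD, hdP⟩
    exact ⟨⟨φ ⟨d, hdP⟩, hφS _⟩, h2, rfl⟩
  obtain ⟨Zb, hZb⟩ : ∃ Zb : Subgroup (S ⧸ O.subgroupOf S),
      Zb = Cfsg.centerThompsonAOf Db := ⟨_, rfl⟩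
  obtain ⟨R, hRdef⟩ : ∃ R : Subgroup Ω, R = preimageAlong θ Zb := ⟨_, rfl⟩
  have hRS : R ≤ S := by rw [hRdef]; exact preimageAlong_le θ Zb
  haveI : Finite ↥R := Cfsg.Agent.Lib.helper26.finite_of_le hRS
  have hOR : O ≤ R := by rw [hRdef]; exact le_preimageAlong hOle hker Zb
  have hRmem : ∀ x : Ω, x ∈ R ↔ ∃ h : x ∈ S, θ ⟨x, h⟩ ∈ Zb := by
    intro x; rw [hRdef]; exact mem_preimageAlong
  have hZbn : ∀ (g z : S ⧸ O.subgroupOf S), z ∈ Zb → g * z * g⁻¹ ∈ Zb := by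
    intro g z hz
    have hgn : g ∈ Subgroup.normalizer (Db : Set (S ⧸ O.subgroupOf S)) := by
      rw [Subgroup.normalizer_eq_top_iff.2 hDbn]; exact Subgroup.mem_top g
    have h := zj_normalizer Db g hgn
    rw [← hZb] at h
    exact (Subgroup.mem_normalizer_iff.1 h z).1 hz
  have hRnS : S ≤ normalizerIn S R := by
    intro s hs
    refine ⟨hs, ?_⟩
    apply Cfsg.Agent.Lib.helper7.Model.mem_normalizer_of_conj_le R s
    intro x hx
    obtain ⟨hxS, hxZ⟩ := (hRmem x).1 hx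
    refine (hRmem _).2 ⟨S.mul_mem (S.mul_mem hs hxS) (S.inv_mem hs), ?_⟩
    have e : (⟨s * x * s⁻¹, S.mul_mem (S.mul_mem hs hxS) (S.inv_mem hs)⟩ : S) =
        ⟨s, hs⟩ * ⟨x, hxS⟩ * ⟨s, hs⟩⁻¹ := rfl
    rw [e, map_mul, map_mul, map_inv]
    exact hZbn _ _ hxZ
  have hNSR : normalizerIn S R = S := le_antisymm inf_le_left hRnS
  have hRfn : F.IsFullyNormalized R := by
    refine ⟨hRS, fun Q _ => ?_⟩
    rw [hNSR]
    exact Subgroup.card_le_of_le inf_le_left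
  have hRO : Nat.card ↥O < Nat.card ↥R := by
    by_contra hcon
    push Not at hcon
    have heq : O = R := Subgroup.eq_of_le_of_card_ge hOR hcon
    have hZ1 : Zb = ⊥ := by
      rw [eq_bot_iff]
      intro z hz
      obtain ⟨s, rfl⟩ := hθsurj z
      have hsR : (s : Ω) ∈ R := (hRmem _).2 ⟨s.2, hz⟩
      rw [← heq] at hsR
      exact Subgroup.mem_bot.2 ((hker s).2 hsR)
    have hT1 : Db ≠ ⊥ := by
      intro h
      apply hDO
      intro d hd
      have h2 : θ ⟨d, hDS hd⟩ ∈ Db := (hDbmem _).2 ⟨⟨d, hDS hd⟩, hd, rfl⟩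
      rw [h, Subgroup.mem_bot] at h2
      exact (hker ⟨d, hDS hd⟩).1 h2
    exact zj_ne_bot (p := p) Db (hpQ.to_subgroup Db) hT1 (by rw [← hZb]; exact hZ1)
  have hNR : NInn F R := by
    apply nf_innerD hS F hF hD hIH hRfn (by rw [← hOdef]; exact hRO)
    rw [hNSR, inf_eq_left.2 hDS]; exact hI
  have hEI : NInn E (Cfsg.centerThompsonAOf Db) := by
    rw [← hZb]
    intro P' φ' hφ' hZP _ hinto
    obtain ⟨-, φ, hφ, hPS, hφS, hP'x, hind⟩ := (hE.2.2.2 P' φ').1 hφ'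
    have hRP : R ≤ preimageAlong θ P' := by
      intro x hx
      obtain ⟨hxS, hxZ⟩ := (hRmem x).1 hx
      exact mem_preimageAlong.2 ⟨hxS, hZP hxZ⟩
    obtain ⟨g, hgS, hgx⟩ := hNR _ φ hφ hRP (hPS.trans hRnS) (by
      intro w hw
      obtain ⟨hwS, hwZ⟩ := (hRmem w).1 hw
      refine (hRmem _).2 ⟨hφS _, ?_⟩
      have h1 := hind ⟨w, hRP hw⟩
      rw [← h1]
      exact hinto _ hwZ)
    refine ⟨θ ⟨g, hgS⟩, Subgroup.mem_top _, fun y => ?_⟩
    obtain ⟨s, hs⟩ := hθsurj (y : S ⧸ O.subgroupOf S)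
    have hsP : (s : Ω) ∈ preimageAlong θ P' :=
      mem_preimageAlong.2 ⟨s.2, by rw [hs]; exact y.2⟩
    have h1 := hind ⟨s, hsP⟩
    have h1' : φ' y = θ ⟨φ ⟨s, hsP⟩, hφS _⟩ := by
      have e1 : y = ⟨θ ⟨((⟨s, hsP⟩ : ↥(preimageAlong θ P')) : Ω), hPS hsP⟩,
          hP'x ⟨s, hsP⟩⟩ := Subtype.ext hs.symm
      rw [e1]; exact h1
    rw [h1']
    have h2 : φ ⟨s, hsP⟩ = g * s * g⁻¹ := hgx ⟨s, hsP⟩
    have e2 : (⟨φ ⟨s, hsP⟩, hφS _⟩ : S) = ⟨g, hgS⟩ * s * ⟨g, hgS⟩⁻¹ := Subtype.ext h2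
    rw [e2, map_mul, map_mul, map_inv, hs]
  have hEinn : Inn E :=
    hIH (⊤ : Subgroup (S ⧸ O.subgroupOf S)) hpE E Db hEsat hDbE hEI (Or.inl hcardlt)
  have hCs : F.StronglyClosed (centralizerIn S O) :=
    stronglyClosed_centralizerIn_of_isNormal F hOn
  have hCmem : ∀ x, x ∈ centralizerIn S O → x ∈ S ∧ x ∈ Subgroup.centralizer (O : Set Ω) :=
    fun x hx => hx
  have hstep : ∀ i : ℕ, centralizerIn S O ⊓
      preimageAlong θ (Subgroup.upperCentralSeries (S ⧸ O.subgroupOf S) i) ≤ O := by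
    intro i
    induction i with
    | zero =>
      intro x hx
      obtain ⟨hxS, hxZ⟩ := mem_preimageAlong.1 hx.2
      rw [Subgroup.upperCentralSeries_zero, Subgroup.mem_bot] at hxZ
      exact (hker ⟨x, hxS⟩).1 hxZ
    | succ i IHi =>
      have hZsc : E.StronglyClosed
          (Subgroup.upperCentralSeries (S ⧸ O.subgroupOf S) (i + 1)) := by
        refine ⟨le_top, fun P' hP' φ' hφ' x => ?_⟩
        obtain ⟨s, -, hsx⟩ := hEinn P' φ' hφ'
        rw [hsx x]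
        exact (inferInstance : (Subgroup.upperCentralSeries
          (S ⧸ O.subgroupOf S) (i + 1)).Normal).conj_mem _ (hP' x.2) s
      have hA : F.StronglyClosed (centralizerIn S O ⊓
          preimageAlong θ (Subgroup.upperCentralSeries (S ⧸ O.subgroupOf S) (i + 1))) :=
        stronglyClosed_inf F hCs (stronglyClosed_preimageAlong hS F hF hOsc θ E hE hZsc)
      have hAn : F.IsNormal (centralizerIn S O ⊓
          preimageAlong θ (Subgroup.upperCentralSeries (S ⧸ O.subgroupOf S) (i + 1))) := by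
        apply isNormal_of_stronglyClosed_of_comm_le hS F hF hOn hA
        · intro a ha q hq
          exact (Subgroup.mem_centralizer_iff.1 (hCmem a ha.1).2 q hq).symm
        · rw [Subgroup.commutator_le]
          intro a ha b hb
          apply IHi
          rw [commutatorElement_def]
          refine ⟨(centralizerIn S O).mul_mem ((centralizerIn S O).mul_mem
            ((centralizerIn S O).mul_mem ha.1 hb.1) ((centralizerIn S O).inv_mem ha.1))
            ((centralizerIn S O).inv_mem hb.1), ?_⟩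
          obtain ⟨haS, haZ⟩ := mem_preimageAlong.1 ha.2
          obtain ⟨hbS, hbZ⟩ := mem_preimageAlong.1 hb.2
          refine mem_preimageAlong.2 ⟨S.mul_mem (S.mul_mem (S.mul_mem haS hbS)
            (S.inv_mem haS)) (S.inv_mem hbS), ?_⟩
          have e : (⟨a * b * a⁻¹ * b⁻¹, S.mul_mem (S.mul_mem (S.mul_mem haS hbS)
              (S.inv_mem haS)) (S.inv_mem hbS)⟩ : S) =
              ⟨a, haS⟩ * ⟨b, hbS⟩ * ⟨a, haS⟩⁻¹ * ⟨b, hbS⟩⁻¹ := rfl
          rw [e, map_mul, map_mul, map_mul, map_inv, map_inv]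
          exact Subgroup.mem_upperCentralSeries_succ_iff.1 haZ _
      have hle : centralizerIn S O ⊓ preimageAlong θ
          (Subgroup.upperCentralSeries (S ⧸ O.subgroupOf S) (i + 1)) ≤ F.core := le_sSup hAn
      exact hle.trans (le_of_eq hOdef.symm)
  haveI : Group.IsNilpotent (S ⧸ O.subgroupOf S) := hpQ.isNilpotent
  obtain ⟨n, hn⟩ := Group.IsNilpotent.nilpotent (S ⧸ O.subgroupOf S)
  intro x hx
  apply hstep n
  refine ⟨hx, mem_preimageAlong.2 ⟨(hCmem x hx).1, ?_⟩⟩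
  rw [hn]; exact Subgroup.mem_top _

/-- the constrained case -/
theorem inn_of_modelD [Finite S] {p : ℕ} [Fact p.Prime] (hp : p ≠ 2)
    (F : FusionSystem S) {D : Subgroup Ω} (hD : F.StronglyClosed D)
    (hI : NInn F (Cfsg.centerThompsonAOf D))
    (G : Type u) [Group G] (ι : S →* G) (hG : F.IsModel p G ι) : Inn F := by
  classical
  obtain ⟨hGfin, ⟨hιinj, hreal⟩, ⟨TG, hTG⟩, hGcen⟩ := hG
  haveI := hGfin
  have hDS : D ≤ S := hD.1
  have hr : F.IsRealizedBy ι := ⟨hιinj, hreal⟩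
  have hO : pCore p G ≤ ι.range := hTG ▸ Cfsg.Agent.Lib.helper26.pCore_le_sylow TG
  have hOn : (pCore p G).Normal := Cfsg.Agent.Lib.helper26.pCore_normal p G
  have hZS : Cfsg.centerThompsonAOf D ≤ S := (Cfsg.Agent.S0659.zjA_le D).trans hDS
  have hSN : S ≤ normalizerIn S (Cfsg.centerThompsonAOf D) := fun x hx =>
    ⟨hx, sc_zj_normalizer F hD hx⟩
  have hXdef : ∀ g : G, ∃ X : Subgroup Ω, (∀ x : Ω, x ∈ X ↔
      ∃ hx : x ∈ S, g * ι ⟨x, hx⟩ * g⁻¹ ∈ ι.range) := by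
    intro g
    refine ⟨((ι.range.comap (MulAut.conj g).toMonoidHom).comap ι).map S.subtype, fun x => ?_⟩
    constructor
    · rintro ⟨t, ht, rfl⟩
      exact ⟨t.2, ht⟩
    · rintro ⟨hx, h⟩
      exact ⟨⟨x, hx⟩, h, rfl⟩
  have hkey : ∀ g : G,
      (∀ (X : Subgroup Ω) (hXS : X ≤ S) (β : X →* Ω), β ∈ F.Hom X →
        (∀ x : X, ∃ h : β x ∈ S, ι ⟨β x, h⟩ = g * ι ⟨x, hXS x.2⟩ * g⁻¹) →
        (∀ (x : Ω) (hx : x ∈ S), g * ι ⟨x, hx⟩ * g⁻¹ ∈ ι.range → x ∈ X) →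
        ∃ s ∈ S, ∀ x : X, β x = s * x * s⁻¹) → g ∈ ι.range := by
    intro g H
    obtain ⟨X, hXmem⟩ := hXdef g
    have hXT : X ≤ S := fun x hx => ((hXmem x).1 hx).1
    have hgr : ∀ x : X, g * ι ⟨x, hXT x.2⟩ * g⁻¹ ∈ ι.range := fun x => ((hXmem x).1 x.2).2
    have hβF : realHom ι hιinj hXT g hgr ∈ F.Hom X := realHom_mem F ι hr hXT g hgr
    obtain ⟨s, hsS, hsx⟩ := H X hXT (realHom ι hιinj hXT g hgr) hβF
      (fun x => ⟨realHom_mem_S ι hιinj hXT g hgr x, map_realHom ι hιinj hXT g hgr x⟩)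
      (fun x hx h => (hXmem x).2 ⟨hx, h⟩)
    have hz : (ι ⟨s, hsS⟩)⁻¹ * g ∈
        Subgroup.centralizer ((pCore p G : Subgroup G) : Set G) := by
      rw [Subgroup.mem_centralizer_iff]
      intro y hy
      obtain ⟨t, rfl⟩ := hO hy
      have hconj : g * ι t * g⁻¹ ∈ ι.range := hO (hOn.conj_mem _ hy g)
      have htX : (t : Ω) ∈ X := (hXmem t).2 ⟨t.2, hconj⟩
      have h3 : ι ⟨realHom ι hιinj hXT g hgr ⟨t, htX⟩,
          realHom_mem_S ι hιinj hXT g hgr _⟩ = g * ι t * g⁻¹ :=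
        map_realHom ι hιinj hXT g hgr ⟨t, htX⟩
      have h6 : realHom ι hιinj hXT g hgr ⟨t, htX⟩ = s * t * s⁻¹ := hsx ⟨t, htX⟩
      have h8 : (⟨s, hsS⟩ * t * ⟨s, hsS⟩⁻¹ : ↥S) =
          ⟨realHom ι hιinj hXT g hgr ⟨t, htX⟩, realHom_mem_S ι hιinj hXT g hgr _⟩ :=
        Subtype.ext h6.symm
      have h7 : ι ⟨s, hsS⟩ * ι t * (ι ⟨s, hsS⟩)⁻¹ = g * ι t * g⁻¹ := by
        rw [← h3, ← h8, map_mul, map_mul, map_inv]
      calc ι t * ((ι ⟨s, hsS⟩)⁻¹ * g)
          = (ι ⟨s, hsS⟩)⁻¹ * (ι ⟨s, hsS⟩ * ι t * (ι ⟨s, hsS⟩)⁻¹) * g := by group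
        _ = (ι ⟨s, hsS⟩)⁻¹ * (g * ι t * g⁻¹) * g := by rw [h7]
        _ = (ι ⟨s, hsS⟩)⁻¹ * g * ι t := by group
    obtain ⟨w, hw⟩ := hO (hGcen hz)
    refine ⟨⟨s, hsS⟩ * w, ?_⟩
    rw [map_mul, hw]; group
  -- the image of `D`
  obtain ⟨Dh, hDhdef⟩ : ∃ Dh : Subgroup G, Dh = (D.subgroupOf S).map ι := ⟨_, rfl⟩
  have hDhmem : ∀ z, z ∈ Dh ↔ ∃ d : S, (d : Ω) ∈ D ∧ ι d = z := by
    intro z
    rw [hDhdef]
    constructor
    · rintro ⟨d, hd, rfl⟩
      exact ⟨d, Subgroup.mem_subgroupOf.1 hd, rfl⟩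
    · rintro ⟨d, hd, rfl⟩
      exact ⟨d, Subgroup.mem_subgroupOf.2 hd, rfl⟩
  have hDh : Cfsg.IsStronglyClosed Dh (TG : Subgroup G) := by
    refine ⟨?_, fun x hx g hg => ?_⟩
    · intro z hz
      obtain ⟨d, -, rfl⟩ := (hDhmem z).1 hz
      rw [hTG]; exact ⟨d, rfl⟩
    · obtain ⟨d, hdD, rfl⟩ := (hDhmem x).1 hx
      rw [hTG] at hg
      obtain ⟨t, ht⟩ := hg
      obtain ⟨X, hXmem⟩ := hXdef g
      have hXT : D ⊓ X ≤ S := inf_le_left.trans hDS
      have hgr : ∀ x : ↥(D ⊓ X), g * ι ⟨x, hXT x.2⟩ * g⁻¹ ∈ ι.range :=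
        fun x => ((hXmem x).1 x.2.2).2
      have hβF : realHom ι hιinj hXT g hgr ∈ F.Hom (D ⊓ X) := realHom_mem F ι hr hXT g hgr
      have hdX : (d : Ω) ∈ D ⊓ X := ⟨hdD, (hXmem _).2 ⟨d.2, by rw [← ht]; exact ⟨t, rfl⟩⟩⟩
      have h2 := hD.2 (D ⊓ X) inf_le_left _ hβF ⟨d, hdX⟩
      have h3 : ι ⟨realHom ι hιinj hXT g hgr ⟨d, hdX⟩,
          realHom_mem_S ι hιinj hXT g hgr _⟩ = g * ι d * g⁻¹ :=
        map_realHom ι hιinj hXT g hgr ⟨d, hdX⟩
      rw [hDhmem]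
      exact ⟨⟨realHom ι hιinj hXT g hgr ⟨d, hdX⟩, realHom_mem_S ι hιinj hXT g hgr _⟩, h2, h3⟩
  have hzj1 := zj_map S.subtype (D.subgroupOf S) (fun x _ hx => Subtype.ext hx)
  rw [Subgroup.map_subgroupOf_eq_of_le hDS] at hzj1
  have hzj2 := zj_map ι (D.subgroupOf S) (fun x _ hx => hιinj (hx.trans (map_one ι).symm))
  rw [← hDhdef] at hzj2
  have hWG1 : ∀ (u : Ω) (hu : u ∈ Cfsg.centerThompsonAOf D),
      ι ⟨u, hZS hu⟩ ∈ Cfsg.centerThompsonAOf Dh := by
    intro u hu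
    rw [hzj1] at hu
    obtain ⟨a, ha, hau⟩ := hu
    rw [hzj2]
    refine ⟨a, ha, ?_⟩
    congr 1
    exact Subtype.ext hau
  have hWG2 : ∀ w ∈ Cfsg.centerThompsonAOf Dh,
      ∃ (u : Ω) (hu : u ∈ Cfsg.centerThompsonAOf D), ι ⟨u, hZS hu⟩ = w := by
    intro w hw
    rw [hzj2] at hw
    obtain ⟨a, ha, rfl⟩ := hw
    have hu : (a : Ω) ∈ Cfsg.centerThompsonAOf D := by
      rw [hzj1]; exact ⟨a, ha, rfl⟩
    exact ⟨a, hu, rfl⟩
  have hNle : Subgroup.normalizer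
      ((Cfsg.centerThompsonAOf Dh : Subgroup G) : Set G) ≤ ι.range := by
    intro g hg
    apply hkey g
    intro X hXT β hβ hβι hXfull
    have hUι : ∀ (u : Ω) (hu : u ∈ Cfsg.centerThompsonAOf D),
        ∃ (u' : Ω) (hu' : u' ∈ Cfsg.centerThompsonAOf D),
          ι ⟨u', hZS hu'⟩ = g * ι ⟨u, hZS hu⟩ * g⁻¹ := by
      intro u hu
      have h1 := hWG1 u hu
      have h2 := (Subgroup.mem_normalizer_iff.1 hg _).1 h1
      exact hWG2 _ h2
    have hUX : Cfsg.centerThompsonAOf D ≤ X := by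
      intro u hu
      obtain ⟨u', hu', h3⟩ := hUι u hu
      exact hXfull u (hZS hu) (by rw [← h3]; exact ⟨_, rfl⟩)
    apply hI X β hβ hUX (hXT.trans hSN)
    intro w hw
    obtain ⟨u', hu', h3⟩ := hUι w hw
    obtain ⟨h, hx⟩ := hβι ⟨w, hUX hw⟩
    have h4 : (⟨β ⟨w, hUX hw⟩, h⟩ : ↥S) = ⟨u', hZS hu'⟩ := hιinj (hx.trans h3.symm)
    have h5 : β ⟨w, hUX hw⟩ = u' := congrArg Subtype.val h4
    rw [h5]; exact hu'
  have htop : ι.range = ⊤ := by
    rw [← hTG]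
    exact gtd hp TG Dh hDh hGcen (by rw [hTG]; exact hNle)
  intro X δ hδ
  have hXS : X ≤ S := (F.le_of_mem hδ).1
  have hval : ∀ x : X, δ x ∈ S := (F.le_of_mem hδ).2
  obtain ⟨g, hg⟩ := (hreal X hXS δ hval).1 hδ
  have hgr : g ∈ ι.range := by rw [htop]; exact Subgroup.mem_top g
  obtain ⟨t, rfl⟩ := hgr
  refine ⟨t, t.2, fun x => ?_⟩
  have h1 := hg x
  have h2 : (⟨δ x, hval x⟩ : ↥S) = t * ⟨x, hXS x.2⟩ * t⁻¹ := by
    apply hιinj
    rw [map_mul, map_mul, map_inv]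
    exact h1
  exact congrArg Subtype.val h2

/-- one step of the induction -/
theorem inn_stepD [Finite S] {p : ℕ} [Fact p.Prime] (hp : p ≠ 2) (hS : IsPGroup p S)
    (F : FusionSystem S) (hF : F.IsSaturated p) {D : Subgroup Ω} (hD : F.StronglyClosed D)
    (hIH : BelowD p F)
    (hI : NInn F (Cfsg.centerThompsonAOf D)) : Inn F := by
  classical
  have hDS : D ≤ S := hD.1
  haveI : Finite ↥D := Cfsg.Agent.Lib.helper26.finite_of_le hDS
  have hOn : F.IsNormal F.core := isNormal_core F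
  have hZD : Cfsg.centerThompsonAOf D ≤ D := Cfsg.Agent.S0659.zjA_le D
  have hSN : S ≤ normalizerIn S (Cfsg.centerThompsonAOf D) := fun x hx =>
    ⟨hx, sc_zj_normalizer F hD hx⟩
  by_cases hDO : D ≤ F.core
  · intro X δ hδ
    have hXS : X ≤ S := (F.le_of_mem hδ).1
    obtain ⟨ψ, hψ, hagree, -⟩ := hOn.2 X δ hδ
    have hle : X ⊔ Cfsg.centerThompsonAOf D ≤ X ⊔ F.core :=
      sup_le_sup_left (hZD.trans hDO) X
    have hDle : D ≤ X ⊔ F.core := hDO.trans le_sup_right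
    have hψD : ψ.comp (Subgroup.inclusion hDle) ∈ F.Hom D := hom_restrict F hDle hψ
    have hinto : ∀ x : D, (ψ.comp (Subgroup.inclusion hDle)) x ∈ D :=
      fun x => hD.2 D le_rfl _ hψD x
    have hrD := Cfsg.Agent.S5253.range_eq_of_into F _ hψD hinto
    have hψ' : ψ.comp (Subgroup.inclusion hle) ∈ F.Hom (X ⊔ Cfsg.centerThompsonAOf D) :=
      hom_restrict F hle hψ
    obtain ⟨s, hsS, hsx⟩ := hI _ _ hψ' le_sup_right
      ((sup_le hXS (hZD.trans hDS)).trans hSN) (by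
      intro w hw
      obtain ⟨a, ha, rfl⟩ := (mem_zj_iff D w).1 hw
      have h : (ψ.comp (Subgroup.inclusion hDle)) a ∈
          Cfsg.centerThompsonAOf (ψ.comp (Subgroup.inclusion hDle)).range :=
        (mem_zj_range_iff _ (F.injective_of_mem hψD) _).2 ⟨a, ha, rfl⟩
      rw [hrD] at h
      exact h)
    refine ⟨s, hsS, fun x => ?_⟩
    rw [← hagree x]
    exact hsx (Subgroup.inclusion le_sup_left x)
  · have hD1 : D ≠ ⊥ := by
      intro h
      apply hDO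
      rw [h]; exact bot_le
    by_cases hcen : centralizerIn S F.core ≤ F.core
    · have hOc : F.IsCentric F.core := isCentric_of_isNormal_of_centralizer_le F hOn hcen
      obtain ⟨G, _, ι, hG⟩ :=
        Cfsg.Agent.Lib.helper7.Model.exists_model_of hS F hF F.core hOn hOc
      exact inn_of_modelD hp F hD hI G ι hG
    · by_cases hO1 : F.core = ⊥
      · exact inn_of_core_botD hS F hF hD hD1 hIH hI hO1
      · exfalso
        exact hcen (centralizer_le_coreD hS F hF hD hIH hI hO1 hDO)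

theorem inn_allD {p : ℕ} [Fact p.Prime] (hp : p ≠ 2) :
    ∀ (n k : ℕ) {Ω : Type u} [Group Ω] (S : Subgroup Ω) [Finite S],
    IsPGroup p S → ∀ (F : FusionSystem S) (D : Subgroup Ω), F.IsSaturated p →
    F.StronglyClosed D → Nat.card S ≤ n →
    Nat.card S ≤ Nat.card ↥F.core + k → NInn F (Cfsg.centerThompsonAOf D) → Inn F := by
  intro n
  induction n using Nat.strong_induction_on with
  | _ n IHn =>
  intro k
  induction k using Nat.strong_induction_on with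
  | _ k IHk =>
  intro Ω _ S _ hS F D hF hD hn hk hI
  apply inn_stepD hp hS F hF hD ?_ hI
  intro Ω' _ S' _ hS' F' D' hF' hD' hI' hlt
  have hc' : F'.core ≤ S' := (isNormal_core F').1
  have hcard' : Nat.card ↥F'.core ≤ Nat.card S' := Subgroup.card_le_of_le hc'
  rcases hlt with h | ⟨h1, h2⟩
  · exact IHn (Nat.card S') (by omega) (Nat.card S') S' hS' F' D' hF' hD' le_rfl (by omega) hI'
  · exact IHk (Nat.card S' - Nat.card ↥F'.core) (by omega) S' hS' F' D' hF' hD' (by omega)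
      (by omega) hI'

end Cfsg.Agent.Lib.helper7.ZJInn
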